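import Mathlib
import Groth.Agent.CubicLib.Eckardt
import Groth.Agent.CubicLib.SingularLines

/-!
# Tangent-plane sections of cubic surfaces

The translation between the polynomial and the trilinear description of T-points, factorisation of
binary forms over an algebraically closed field, and the two ways a plane section made of lines can
pass through its point of tangency.
-/

noncomputable section

namespace Groth.Agent.CubicT

open CubicLib Module MvPolynomial

universe u

variable {K : Type u} [Field K]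

local notation "V" => Fin 4 → K

/-- A line on the surface. -/
def IsLine (G : Cubic K (Fin 4 → K)) (U : Submodule K (Fin 4 → K)) : Prop :=
  finrank K U = 2 ∧ ∀ u ∈ U, G.F u = 0

/-- The cubic is irreducible and is not a cone. -/
structure Good (G : Cubic K (Fin 4 → K)) : Prop where
  irr : ∀ (L : (Fin 4 → K) →ₗ[K] K) (B : (Fin 4 → K) →ₗ[K] (Fin 4 → K) →ₗ[K] K),
    ¬ ∀ v, G.F v = L v * B v v
  cone : ∀ v, v ≠ 0 → G.T v ≠ 0

/-- The tangent plane cuts the surface in three lines. -/
def IsT (G : Cubic K (Fin 4 → K)) (b : Fin 4 → K) : Prop :=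
  G.T b b ≠ 0 ∧ G.F b = 0 ∧ ∃ l₁ l₂ l₃ : (Fin 4 → K) →ₗ[K] K,
    ∀ w, G.T b b w = 0 → G.F w = l₁ w * l₂ w * l₃ w

variable {G : Cubic K (Fin 4 → K)}

theorem IsT.ne_zero {b : V} (h : IsT G b) : b ≠ 0 := by
  rintro rfl
  exact h.1 (by simp)

/-- The polynomial of a linear form. -/
def lin (l : (Fin 4 → K) →ₗ[K] K) : MvPolynomial (Fin 4) K :=
  ∑ i, C (l (Pi.single i 1)) * X i

theorem eval_lin (l : (Fin 4 → K) →ₗ[K] K) (v : V) : eval v (lin l) = l v := by
  conv_rhs => rw [pi_eq_sum_univ' v, map_sum]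
  simp only [lin, map_sum, map_mul, eval_C, eval_X, map_smul, smul_eq_mul]
  exact Finset.sum_congr rfl fun i _ => mul_comm _ _

theorem isHomogeneous_lin (l : (Fin 4 → K) →ₗ[K] K) : (lin l).IsHomogeneous 1 :=
  IsHomogeneous.sum _ _ _ fun i _ => (isHomogeneous_X K i).C_mul _

theorem exists_linear (L : MvPolynomial (Fin 4) K) (hL : L.IsHomogeneous 1) :
    ∃ l : (Fin 4 → K) →ₗ[K] K, ∀ v, eval v L = l v := by
  refine ⟨∑ i, coeff 0 (pderiv i L) • LinearMap.proj i, fun v => ?_⟩
  have h := congrArg (eval v) hL.sum_X_mul_pderiv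
  simp only [one_smul] at h
  rw [← h]
  simp only [map_sum, map_mul, eval_X, LinearMap.sum_apply, LinearMap.smul_apply,
    LinearMap.proj_apply, smul_eq_mul]
  refine Finset.sum_congr rfl fun i _ => ?_
  have hh : (pderiv i L).IsHomogeneous 0 := by simpa using hL.pderiv (i := i)
  rw [← totalDegree_zero_iff_isHomogeneous, totalDegree_eq_zero_iff_eq_C] at hh
  conv_lhs => rw [hh]
  rw [eval_C, mul_comm]

/-- A polynomial vanishing on a hyperplane is a multiple of its linear form. -/
theorem mem_span_lin [Infinite K] (φ : (Fin 4 → K) →ₗ[K] K) (g : MvPolynomial (Fin 4) K)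
    (hg : ∀ v, φ v = 0 → eval v g = 0) : g ∈ Ideal.span {lin φ} := by
  by_cases hφ : φ = 0
  · rw [show g = 0 from MvPolynomial.funext fun v => by rw [hg v (by simp [hφ]), map_zero]]
    exact Submodule.zero_mem _
  obtain ⟨w, hw⟩ : ∃ w, φ w = 1 := LinearMap.surjective hφ 1
  set σ : MvPolynomial (Fin 4) K →ₐ[K] MvPolynomial (Fin 4) K :=
    aeval fun i => X i - C (w i) * lin φ with hσ
  have h0 : σ g = 0 := MvPolynomial.funext fun v => by
    rw [map_zero, hσ, aeval_def, eval₂_comp_left (eval v)]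
    refine Eq.trans ?_ (hg (v - φ v • w) (by simp [hw]))
    change eval₂ _ _ g = eval₂ _ _ g
    congr 1
    · ext r; simp
    · funext i
      simp [eval_lin, mul_comm]
  have hcomp : (Ideal.Quotient.mkₐ K (Ideal.span {lin φ})).comp σ = Ideal.Quotient.mkₐ K _ :=
    MvPolynomial.algHom_ext fun i => by
      rw [AlgHom.comp_apply, hσ, aeval_X, map_sub, Ideal.Quotient.mkₐ_eq_mk,
        Ideal.Quotient.eq_zero_iff_mem.2 (Ideal.mul_mem_left _ _ (Ideal.mem_span_singleton_self _)),
        sub_zero]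
  have h := AlgHom.congr_fun hcomp g
  rw [AlgHom.comp_apply, h0, map_zero] at h
  exact Ideal.Quotient.eq_zero_iff_mem.1 h.symm

/-- Being congruent to a product of three linear forms modulo a linear form. -/
theorem mem_span_iff [Infinite K] (F ℓ : MvPolynomial (Fin 4) K) (φ : (Fin 4 → K) →ₗ[K] K) (c : K)
    (hc : c ≠ 0) (hℓ : ∀ v, eval v ℓ = c * φ v) :
    (∃ L₁ L₂ L₃ : MvPolynomial (Fin 4) K, L₁.IsHomogeneous 1 ∧ L₂.IsHomogeneous 1 ∧
        L₃.IsHomogeneous 1 ∧ F - L₁ * L₂ * L₃ ∈ Ideal.span {ℓ}) ↔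
      ∃ l₁ l₂ l₃ : (Fin 4 → K) →ₗ[K] K, ∀ w, φ w = 0 → eval w F = l₁ w * l₂ w * l₃ w := by
  constructor
  · rintro ⟨L₁, L₂, L₃, h₁, h₂, h₃, hm⟩
    obtain ⟨l₁, e₁⟩ := exists_linear L₁ h₁
    obtain ⟨l₂, e₂⟩ := exists_linear L₂ h₂
    obtain ⟨l₃, e₃⟩ := exists_linear L₃ h₃
    obtain ⟨q, hq⟩ := Ideal.mem_span_singleton'.1 hm
    refine ⟨l₁, l₂, l₃, fun w hw => ?_⟩
    have h := congrArg (eval w) hq
    rw [map_mul, hℓ, hw, map_sub, map_mul, map_mul, e₁, e₂, e₃, mul_zero, mul_zero] at h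
    linear_combination -h
  · rintro ⟨l₁, l₂, l₃, h⟩
    refine ⟨lin l₁, lin l₂, lin l₃, isHomogeneous_lin _, isHomogeneous_lin _, isHomogeneous_lin _, ?_⟩
    have e : Ideal.span {ℓ} = Ideal.span {lin φ} := by
      rw [show ℓ = C c * lin φ from MvPolynomial.funext fun v => by rw [hℓ, map_mul, eval_C, eval_lin]]
      exact Ideal.span_singleton_mul_left_unit ((isUnit_iff_ne_zero.2 hc).map C) _
    rw [e]
    refine mem_span_lin φ _ fun v hv => ?_
    rw [map_sub, map_mul, map_mul, eval_lin, eval_lin, eval_lin, h v hv, sub_self]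

/-- The linear form of the tangent plane. -/
theorem eval_tangent {f : MvPolynomial (Fin 4) K} (hG' : ∀ v i, eval v (pderiv i f) =
    3 * G.T v v (Pi.single i 1)) (b v : V) :
    eval v (∑ i : Fin 4, C (eval b (pderiv i f)) * X i) = 3 * G.T b b v := by
  conv_rhs => rw [pi_eq_sum_univ' v, map_sum, Finset.mul_sum]
  simp only [map_sum, map_mul, eval_C, eval_X, map_smul, smul_eq_mul, hG']
  exact Finset.sum_congr rfl fun i _ => by ring

theorem smooth_iff [CharZero K] {f : MvPolynomial (Fin 4) K} (hG' : ∀ v i, eval v (pderiv i f) =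
    3 * G.T v v (Pi.single i 1)) (b : V) :
    (∃ i : Fin 4, eval b (pderiv i f) ≠ 0) ↔ G.T b b ≠ 0 := by
  constructor
  · rintro ⟨i, hi⟩ h
    exact hi (by rw [hG', h]; simp)
  · intro h
    by_contra! hall
    refine h (LinearMap.ext fun v => ?_)
    rw [pi_eq_sum_univ' v, map_sum, LinearMap.zero_apply]
    refine Finset.sum_eq_zero fun i _ => ?_
    have := hall i
    rw [hG', mul_eq_zero] at this
    rw [map_smul, this.resolve_left (by norm_num), smul_zero]

/-- The polynomial definition of T-point. -/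
theorem tPoint_iff [CharZero K] {f : MvPolynomial (Fin 4) K} (hG : ∀ v, eval v f = G.F v)
    (hG' : ∀ v i, eval v (pderiv i f) = 3 * G.T v v (Pi.single i 1)) (b : V) :
    (b ≠ 0 ∧ eval b f = 0 ∧ (∃ i : Fin 4, eval b (pderiv i f) ≠ 0) ∧
      ∃ L₁ L₂ L₃ : MvPolynomial (Fin 4) K, L₁.IsHomogeneous 1 ∧ L₂.IsHomogeneous 1 ∧
        L₃.IsHomogeneous 1 ∧ f - L₁ * L₂ * L₃ ∈ Ideal.span {∑ i : Fin 4,
          C (eval b (pderiv i f)) * X i}) ↔ IsT G b := by
  rw [mem_span_iff f _ (G.T b b) 3 three_ne_zero (eval_tangent hG' b), smooth_iff hG']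
  simp only [hG]
  exact ⟨fun h => ⟨h.2.2.1, h.2.1, h.2.2.2⟩, fun h => ⟨IsT.ne_zero h, h.2.1, h.1, h.2.2⟩⟩

theorem exists_good [CharZero K] (f : MvPolynomial (Fin 4) K) (hf : f.IsHomogeneous 3)
    (hirr : Irreducible f)
    (hcone : ¬ ∃ v : Fin 4 → K, v ≠ 0 ∧ ∑ i : Fin 4, v i • pderiv i f = 0) :
    ∃ G : Cubic K (Fin 4 → K), Good G ∧ (∀ v, eval v f = G.F v) ∧
      ∀ v i, eval v (pderiv i f) = 3 * G.T v v (Pi.single i 1) := by
  obtain ⟨G, hG, hG', -⟩ := exists_cubic f hf
  refine ⟨G, ⟨fun L B h => ?_, fun a ha hT => hcone ⟨a, ha, MvPolynomial.funext fun v => ?_⟩⟩, hG, hG'⟩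
  · let PB : MvPolynomial (Fin 4) K := ∑ i, ∑ j, C (B (Pi.single i 1) (Pi.single j 1)) * X i * X j
    have hB : ∀ v, eval v PB = B v v := fun v => by
      conv_rhs => rw [pi_eq_sum_univ' v]
      simp only [PB, map_sum, map_mul, eval_C, eval_X, map_smul, LinearMap.sum_apply,
        LinearMap.smul_apply, smul_eq_mul, Finset.mul_sum]
      rw [Finset.sum_comm]
      exact Finset.sum_congr rfl fun i _ => Finset.sum_congr rfl fun j _ => by ring
    have hf' : f = lin L * PB := MvPolynomial.funext fun v => by rw [map_mul, eval_lin, hB, hG, h]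
    rcases hirr.isUnit_or_isUnit hf' with hu | hu
    · simpa [lin] using hu.map (eval (0 : Fin 4 → K))
    · simpa [PB] using hu.map (eval (0 : Fin 4 → K))
  · rw [map_sum, map_zero]
    have h : G.T v v a = 0 := by rw [G.symm₁₃, hT]; simp
    rw [pi_eq_sum_univ' a, map_sum] at h
    simp only [map_smul, smul_eq_mul] at h
    simp only [smul_eval, hG']
    have h' : 3 * ∑ i, a i * G.T v v (Pi.single i 1) = 0 := by rw [h, mul_zero]
    rw [Finset.mul_sum] at h'
    rw [← h']
    exact Finset.sum_congr rfl fun i _ => by ring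

theorem F_plus [CharZero K] (x w : V) :
    6 * G.T x x w = G.F (x + w) - G.F (x - w) - 2 * G.F w := by
  have h₁ := G.F_comb₂ x w 1 1
  have h₂ := G.F_comb₂ x w 1 (-1)
  simp only [one_smul, neg_smul, ← sub_eq_add_neg] at h₁ h₂
  rw [h₁, h₂]
  ring

/-- The common kernel of linear forms. -/
theorem finrank_ker {φ : (Fin 4 → K) →ₗ[K] K} (hφ : φ ≠ 0) : finrank K (LinearMap.ker φ) = 3 := by
  have h := LinearMap.finrank_range_add_finrank_ker φ
  rw [LinearMap.range_eq_top.2 (LinearMap.surjective hφ), finrank_top, Module.finrank_self,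
    Module.finrank_fin_fun] at h
  omega

theorem finrank_span_pair' {x y : V} (h : LinearIndependent K ![x, y]) :
    finrank K (Submodule.span K ({x, y} : Set (Fin 4 → K))) = 2 := by
  rw [← Matrix.range_cons_cons_empty x y ![], finrank_span_eq_card h, Fintype.card_fin]

theorem inf_le_span {U W : Submodule K V} (hU : finrank K U = 2) (hne : ¬ U ≤ W) {b : V}
    (hb : b ≠ 0) (hbU : b ∈ U) (hbW : b ∈ W) : U ⊓ W = Submodule.span K {b} := by
  refine (Submodule.eq_of_le_of_finrank_le ((Submodule.span_singleton_le_iff_mem _ _).2 (Submodule.mem_inf.2 ⟨hbU, hbW⟩)) ?_).symm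
  rw [finrank_span_singleton hb]
  have h : U ⊓ W < U := lt_of_le_of_ne inf_le_left fun e => hne (e ▸ inf_le_right)
  have := Submodule.finrank_lt_finrank_of_lt h
  omega

/-- A binary quadratic form is a product of linear forms. -/
theorem exists_factor₂ [IsAlgClosed K] (A B C : K) :
    ∃ p q r s : K, ∀ x y : K, A * x ^ 2 + B * x * y + C * y ^ 2 = (p * x + q * y) * (r * x + s * y) := by
  by_cases hA : A = 0
  · exact ⟨0, 1, B, C, fun x y => by rw [hA]; ring⟩
  · obtain ⟨z, hz⟩ := Cubic.exists_root_quadratic A B C hA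
    exact ⟨1, -z, A, B + z * A, fun x y => by linear_combination y ^ 2 * hz⟩

/-- A binary cubic form is a product of linear forms. -/
theorem exists_factor₃ [IsAlgClosed K] (A B C D : K) :
    ∃ p q r s t w : K, ∀ x y : K, A * x ^ 3 + B * x ^ 2 * y + C * x * y ^ 2 + D * y ^ 3 =
      (p * x + q * y) * (r * x + s * y) * (t * x + w * y) := by
  by_cases hA : A = 0
  · obtain ⟨p, q, r, s, h⟩ := exists_factor₂ B C D
    exact ⟨0, 1, p, q, r, s, fun x y => by rw [hA]; linear_combination y * h x y⟩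
  · obtain ⟨z, hz⟩ := IsAlgClosed.exists_root (Polynomial.C A * Polynomial.X ^ 3 +
      Polynomial.C B * Polynomial.X ^ 2 + Polynomial.C C * Polynomial.X + Polynomial.C D)
      (by rw [Polynomial.degree_cubic hA]; decide)
    simp [Polynomial.IsRoot] at hz
    obtain ⟨p, q, r, s, h⟩ := exists_factor₂ A (B + z * A) (C + z * (B + z * A))
    exact ⟨1, -z, p, q, r, s, fun x y => by linear_combination y ^ 3 * hz + (x - z * y) * h x y⟩

theorem exists_coord₃ {H : Submodule K V} (hH : finrank K H = 3) {a : V} (ha : a ∈ H) (ha0 : a ≠ 0) :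
    ∃ (x y : Fin 4 → K) (α β γ : (Fin 4 → K) →ₗ[K] K), x ∈ H ∧ y ∈ H ∧
      LinearIndependent K ![a, x, y] ∧ ∀ u ∈ H, u = α u • a + β u • x + γ u • y := by
  obtain ⟨x, hx, hxa⟩ : ∃ x ∈ H, x ∉ Submodule.span K {a} := SetLike.not_le_iff_exists.1 fun h => by
    have := Submodule.finrank_mono h
    rw [hH, finrank_span_singleton ha0] at this
    omega
  obtain ⟨y, hy, hya⟩ : ∃ y ∈ H, y ∉ Submodule.span K ({a, x} : Set (Fin 4 → K)) :=
    SetLike.not_le_iff_exists.1 fun h => by
      have h₁ := Submodule.finrank_mono h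
      have h₂ := finrank_range_le_card (R := K) ![a, x]
      rw [Matrix.range_cons_cons_empty, Fintype.card_fin, Set.finrank] at h₂
      omega
  have hli : LinearIndependent K ![a, x, y] := by
    rw [Fintype.linearIndependent_iff]
    intro g hg
    simp only [Fin.sum_univ_three, Matrix.cons_val_zero, Matrix.cons_val_one, Matrix.cons_val] at hg
    have h2 : g 2 = 0 := by
      by_contra h
      refine hya (Submodule.mem_span_pair.2 ⟨-(g 0 / g 2), -(g 1 / g 2), funext fun i => ?_⟩)
      have := congrFun hg i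
      simp only [Pi.add_apply, Pi.smul_apply, smul_eq_mul, Pi.zero_apply] at this ⊢
      field_simp
      linear_combination -this
    have h1 : g 1 = 0 := by
      by_contra h
      refine hxa (Submodule.mem_span_singleton.2 ⟨-(g 0 / g 1), funext fun i => ?_⟩)
      have := congrFun hg i
      simp only [h2, Pi.add_apply, Pi.smul_apply, smul_eq_mul, Pi.zero_apply, zero_mul, add_zero] at this ⊢
      field_simp
      linear_combination -this
    have h0 : g 0 = 0 := by
      rw [h1, h2, zero_smul, zero_smul, add_zero, add_zero] at hg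
      exact (smul_eq_zero.1 hg).resolve_right ha0
    intro i; fin_cases i <;> assumption
  obtain ⟨e, he⟩ := (Fintype.linearCombination K ![a, x, y]).exists_leftInverse_of_injective
    (LinearMap.ker_eq_bot.2 hli.fintypeLinearCombination_injective)
  refine ⟨x, y, (LinearMap.proj 0).comp e, (LinearMap.proj 1).comp e, (LinearMap.proj 2).comp e,
    hx, hy, hli, fun u hu => ?_⟩
  have hspan : Submodule.span K (Set.range ![a, x, y]) = H := by
    refine Submodule.eq_of_le_of_finrank_eq (Submodule.span_le.2 ?_)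
      (by rw [finrank_span_eq_card hli, hH, Fintype.card_fin])
    rintro _ ⟨i, rfl⟩
    fin_cases i
    exacts [ha, hx, hy]
  obtain ⟨c, rfl⟩ := (Submodule.mem_span_range_iff_exists_fun K).1 (hspan.symm ▸ hu)
  have hc : e (∑ i, c i • ![a, x, y] i) = c := by
    rw [← Fintype.linearCombination_apply K]
    exact LinearMap.congr_fun he c
  simp only [LinearMap.comp_apply, LinearMap.proj_apply, hc]
  simp [Fin.sum_univ_three]

section Closed

variable [IsAlgClosed K] [CharZero K]

omit [CharZero K] [IsAlgClosed K] in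
theorem mem_ker_of_mem {a : V} {U : Submodule K V} (hU : ∀ u ∈ U, G.F u = 0) (ha : a ∈ U)
    [CharZero K] : U ≤ LinearMap.ker (G.T a a) := fun _ hu =>
  LinearMap.mem_ker.2 (G.T_eq_zero_of_F hU ha ha hu)

/-- If the first polar restricts to zero or to a multiple of a linear factor, the section is a
union of lines. -/
theorem isT_of_polar_zero {a : V} (hs : G.T a a ≠ 0) (hF : G.F a = 0)
    (hq : ∀ u, G.T a a u = 0 → G.T a u u = 0) : IsT G a := by
  obtain ⟨x, y, α, β, γ, hx, hy, -, hdec⟩ := exists_coord₃ (finrank_ker hs)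
    (show a ∈ LinearMap.ker (G.T a a) from hF) (fun h => hs (by subst h; simp))
  rw [LinearMap.mem_ker] at hx hy
  have hxy : G.T a x y = 0 := by
    have h := hq (x + y) (by simp [hx, hy])
    simp only [map_add, LinearMap.add_apply, hq x hx, hq y hy, G.symm₂₃ a y x] at h
    simpa using (show 2 * G.T a x y = 0 by linear_combination h)
  obtain ⟨p, q, r, s, t, w, hf⟩ :=
    exists_factor₃ (G.F x) (3 * G.T x x y) (3 * G.T x y y) (G.F y)
  refine ⟨hs, hF, p • β + q • γ, r • β + s • γ, t • β + w • γ, fun u hu => ?_⟩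
  simp only [LinearMap.add_apply, LinearMap.smul_apply, smul_eq_mul]
  rw [← hf]
  conv_lhs => rw [hdec u hu, G.F_comb₃, hF, hx, hy, hq x hx, hq y hy, hxy]
  ring

theorem quad_prod {a : V} (hs : G.T a a ≠ 0) (hF : G.F a = 0) :
    ∃ l₁ l₂ : (Fin 4 → K) →ₗ[K] K, l₁ a = 0 ∧ l₂ a = 0 ∧
      ∀ u, G.T a a u = 0 → G.T a u u = l₁ u * l₂ u := by
  obtain ⟨x, y, α, β, γ, hx, hy, hli, hdec⟩ := exists_coord₃ (finrank_ker hs)
    (show a ∈ LinearMap.ker (G.T a a) from hF) (fun h => hs (by subst h; simp))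
  rw [LinearMap.mem_ker] at hx hy
  obtain ⟨p, q, r, s, hf⟩ := exists_factor₂ (G.T a x x) (2 * G.T a x y) (G.T a y y)
  have ha := hdec a hF
  have ha' : β a = 0 ∧ γ a = 0 := by
    have h := Fintype.linearIndependent_iff.1 hli ![α a - 1, β a, γ a] (by
      simp only [Fin.sum_univ_three, Matrix.cons_val_zero, Matrix.cons_val_one, Matrix.cons_val]
      linear_combination (norm := module) (-1 : K) • ha)
    exact ⟨h 1, h 2⟩
  refine ⟨p • β + q • γ, r • β + s • γ, by simp [ha'.1, ha'.2], by simp [ha'.1, ha'.2], fun u hu => ?_⟩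
  simp only [LinearMap.add_apply, LinearMap.smul_apply, smul_eq_mul]
  rw [← hf]
  conv_lhs => rw [hdec u hu]
  have hF' : G.T a a a = 0 := hF
  simp only [map_add, map_smul, LinearMap.add_apply, LinearMap.smul_apply, smul_eq_mul, hx, hy, hF',
    G.symm₂₃ a x a, G.symm₂₃ a y a, G.symm₂₃ a y x]
  ring

theorem isT_of_polar_dvd {a : V} (hs : G.T a a ≠ 0) (hF : G.F a = 0) (μ : (Fin 4 → K) →ₗ[K] K)
    (h : ∀ u, G.T a a u = 0 → G.F u = μ u * G.T a u u) : IsT G a := by
  obtain ⟨l₁, l₂, -, -, hl⟩ := quad_prod hs hF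
  exact ⟨hs, hF, μ, l₁, l₂, fun u hu => by rw [h u hu, hl u hu]; ring⟩

/-- In the tangent plane at a point which is not a T-point, every line of the surface passes
through it. -/
theorem mem_of_line {a : V} (hs : G.T a a ≠ 0) (hF : G.F a = 0) (hn : ¬ IsT G a)
    {L : Submodule K V} (hL : IsLine G L) (hLH : L ≤ LinearMap.ker (G.T a a)) : a ∈ L := by
  by_contra haL
  have ha0 : a ≠ 0 := fun h => hs (by subst h; simp)
  have hsup : L ⊔ Submodule.span K {a} = LinearMap.ker (G.T a a) := by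
    refine Submodule.eq_of_le_of_finrank_le (sup_le hLH ((Submodule.span_singleton_le_iff_mem _ _).2 hF)) ?_
    rw [finrank_ker hs]
    have h : L < L ⊔ Submodule.span K {a} := lt_of_le_of_ne le_sup_left fun e =>
      haL (e ▸ le_sup_right (a := L) (Submodule.mem_span_singleton_self a))
    have := Submodule.finrank_lt_finrank_of_lt h
    have := hL.1
    omega
  obtain ⟨φ, hφ, hφa⟩ : ∃ φ : (Fin 4 → K) →ₗ[K] K, L ≤ LinearMap.ker φ ∧ φ a ≠ 0 := by
    obtain ⟨φ, h1, h2⟩ := Submodule.exists_le_ker_of_notMem haL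
    exact ⟨φ, h2, h1⟩
  refine hn (isT_of_polar_dvd hs hF ((3 * (φ a)⁻¹) • φ) fun u hu => ?_)
  obtain ⟨l, hl, t, ht, rfl⟩ := Submodule.mem_sup.1 (hsup.symm ▸ (LinearMap.mem_ker.2 hu) :
    u ∈ L ⊔ Submodule.span K {a})
  obtain ⟨c, rfl⟩ := Submodule.mem_span_singleton.1 ht
  have h1 : G.T a a l = 0 := LinearMap.mem_ker.1 (hLH hl)
  have hFl := hL.2 l hl
  have hF' : G.T a a a = 0 := hF
  rw [add_comm l, show c • a + l = c • a + (1 : K) • l by rw [one_smul], G.F_comb₂, hF, h1, hFl]
  simp only [map_add, map_smul, LinearMap.add_apply, LinearMap.smul_apply, smul_eq_mul, hF', h1,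
    LinearMap.mem_ker.1 (hφ hl), G.symm₂₃ a l a]
  field_simp
  ring

end Closed

end Groth.Agent.CubicT
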