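import Mathlib
import Groth.Agent.CubicLib.Form

/-!
# Linear Pfaffian representations from five points in general position
-/

noncomputable section

namespace Groth.Agent.CubicT.Pfaffian

open CubicLib Module MvPolynomial Matrix

universe u

variable {R : Type*} [CommRing R]

/-- The alternating matrix. -/
def mat (y : Fin 4 → R) (l : Fin 5 → R) : Matrix (Fin 6) (Fin 6) R :=
  !![0, y 3, -y 2, -y 3, y 2, l 0;
     -y 3, 0, y 1, y 3, 0, l 1;
     y 2, -y 1, 0, 0, -y 2, l 2;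
     y 3, -y 3, 0, 0, -y 0, l 3;
     -y 2, 0, y 2, y 0, 0, l 4;
     -l 0, -l 1, -l 2, -l 3, -l 4, 0]

/-- The five quadrics. -/
def comb (y : Fin 4 → R) (l : Fin 5 → R) : R :=
  l 0 * (y 0 * y 1 - y 2 * y 3) + l 1 * (y 0 * y 2 - y 2 * y 3) + l 2 * (y 0 * y 3 - y 2 * y 3) +
    l 3 * (y 1 * y 2 - y 2 * y 3) + l 4 * (y 1 * y 3 - y 2 * y 3)

theorem det_mat (y : Fin 4 → R) (l : Fin 5 → R) : (mat y l).det = comb y l ^ 2 := by
  simp [mat, comb, Matrix.det_succ_row_zero, Fin.sum_univ_succ, Fin.succAbove]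
  ring

theorem transpose_mat (y : Fin 4 → R) (l : Fin 5 → R) : (mat y l).transpose = -mat y l := by
  ext i j
  fin_cases i <;> fin_cases j <;> simp [mat]

theorem diag_mat (y : Fin 4 → R) (l : Fin 5 → R) (i : Fin 6) : mat y l i i = 0 := by
  fin_cases i <;> simp [mat]

theorem isHomogeneous_mat {σ K : Type*} [CommRing K] {y : Fin 4 → MvPolynomial σ K}
    {l : Fin 5 → MvPolynomial σ K} (hy : ∀ i, (y i).IsHomogeneous 1) (hl : ∀ i, (l i).IsHomogeneous 1)
    (i j : Fin 6) : (mat y l i j).IsHomogeneous 1 := by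
  fin_cases i <;> fin_cases j <;>
    simp [mat, isHomogeneous_zero, (hy _).neg, (hl _).neg, hy, hl]

/-- The linear forms multiplying the quadrics. -/
def coeffs (T : Fin 4 → Fin 4 → Fin 4 → R) (y : Fin 4 → R) : Fin 5 → R :=
  ![3 * T 0 0 1 * (y 0) +
    3 * T 0 1 1 * (y 1 + y 3) +
    6 * T 0 1 2 * (y 3) +
    6 * T 0 1 3 * (y 3) +
    3 * T 0 2 2 * (-y 2 + y 3) +
    3 * T 1 1 2 * (y 3) +
    3 * T 1 1 3 * (y 3) +
    3 * T 1 2 2 * (-y 2 + y 3) +
    6 * T 1 2 3 * (y 3) +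
    3 * T 2 2 3 * (-y 2 + y 3),
    3 * T 0 0 2 * (y 0) +
    3 * T 0 1 1 * (-y 3) +
    6 * T 0 1 2 * (y 1 + -y 3) +
    6 * T 0 1 3 * (-y 3) +
    3 * T 0 2 2 * (y 1 + y 2 + -y 3) +
    3 * T 0 3 3 * (-y 3) +
    3 * T 1 1 2 * (-y 3) +
    3 * T 1 1 3 * (-y 3) +
    3 * T 1 2 2 * (y 1 + -y 3) +
    6 * T 1 2 3 * (-y 3) +
    3 * T 1 3 3 * (-y 3) +
    3 * T 2 2 3 * (y 1 + -y 3) +
    3 * T 2 3 3 * (-y 3),
    3 * T 0 0 3 * (y 0) +
    3 * T 0 1 1 * (-y 1) +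
    6 * T 0 1 2 * (-y 1) +
    3 * T 0 2 2 * (-y 1) +
    3 * T 0 3 3 * (y 3) +
    3 * T 1 1 2 * (-y 1) +
    3 * T 1 1 3 * (-y 1) +
    3 * T 1 2 2 * (-y 1) +
    6 * T 1 2 3 * (-y 1) +
    3 * T 2 2 3 * (-y 1),
    3 * T 1 1 2 * (y 1) +
    3 * T 1 2 2 * (y 2),
    3 * T 1 1 3 * (y 1) +
    3 * T 1 3 3 * (y 3)]

/-- The value of a cubic form without pure cubes. -/
def value (T : Fin 4 → Fin 4 → Fin 4 → R) (y : Fin 4 → R) : R :=
  3 * T 0 0 1 * (y 0 ^ 2 * y 1) + 3 * T 0 0 2 * (y 0 ^ 2 * y 2) + 3 * T 0 0 3 * (y 0 ^ 2 * y 3) +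
  3 * T 0 1 1 * (y 0 * y 1 ^ 2) + 6 * T 0 1 2 * (y 0 * y 1 * y 2) + 6 * T 0 1 3 * (y 0 * y 1 * y 3) +
  3 * T 0 2 2 * (y 0 * y 2 ^ 2) + 6 * T 0 2 3 * (y 0 * y 2 * y 3) + 3 * T 0 3 3 * (y 0 * y 3 ^ 2) +
  3 * T 1 1 2 * (y 1 ^ 2 * y 2) + 3 * T 1 1 3 * (y 1 ^ 2 * y 3) + 3 * T 1 2 2 * (y 1 * y 2 ^ 2) +
  6 * T 1 2 3 * (y 1 * y 2 * y 3) + 3 * T 1 3 3 * (y 1 * y 3 ^ 2) + 3 * T 2 2 3 * (y 2 ^ 2 * y 3) +
  3 * T 2 3 3 * (y 2 * y 3 ^ 2)

theorem comb_coeffs (T : Fin 4 → Fin 4 → Fin 4 → R) (y : Fin 4 → R) (h : value T (fun _ => 1) = 0) :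
    comb y (coeffs T y) = value T y := by
  simp only [value, mul_one, one_pow] at h
  simp only [comb, coeffs, value, Matrix.cons_val_zero, Matrix.cons_val_one, Matrix.cons_val]
  linear_combination -(y 0 * y 2 * y 3) * h

theorem coeffs_eq_sum (T : Fin 4 → Fin 4 → Fin 4 → R) (y : Fin 4 → R) (i : Fin 5) :
    coeffs T y i = ∑ j, y j * coeffs T (Pi.single j 1) i := by
  fin_cases i <;> simp [coeffs, Fin.sum_univ_four] <;> ring

variable {k : Type u} [Field k] [CharZero k]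

theorem F_comb₄ {V : Type u} [AddCommGroup V] [Module k V] (G : Cubic k V) (e : Fin 4 → V)
    (hpure : ∀ i, G.F (e i) = 0) (c : Fin 4 → k) :
    G.F (∑ i, c i • e i) = value (fun i j l => G.T (e i) (e j) (e l)) c := by
  simp only [Fin.sum_univ_four, G.F_add_smul (c 0 • e 0 + c 1 • e 1 + c 2 • e 2) (e 3) (c 3),
    G.F_comb₃, hpure, map_add, map_smul, LinearMap.add_apply, LinearMap.smul_apply, smul_eq_mul,
    value]
  rw [G.symm₁₂ (e 1) (e 0) (e 3), G.symm₁₂ (e 2) (e 0) (e 3), G.symm₁₂ (e 2) (e 1) (e 3)]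
  ring

/-- Five points in general position give a linear Pfaffian representation. -/
theorem exists_rep (f : MvPolynomial (Fin 4) k) (hf : f.IsHomogeneous 3) (p : Fin 5 → Fin 4 → k)
    (hp : ∀ j, eval (p j) f = 0)
    (hgen : ∀ j : Fin 5, LinearIndependent k (fun i : Fin 4 => p (j.succAbove i))) :
    ∃ M : Matrix (Fin 6) (Fin 6) (MvPolynomial (Fin 4) k), (∀ i j, (M i j).IsHomogeneous 1) ∧
      M.transpose = -M ∧ (∀ i, M i i = 0) ∧ ∃ c : k, c ≠ 0 ∧ M.det = C c * f ^ 2 := by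
  obtain ⟨G, hG, -, -⟩ := exists_cubic f hf
  have h4 : LinearIndependent k ![p 0, p 1, p 2, p 3] := by
    convert hgen 4 using 1
    funext i; fin_cases i <;> rfl
  let b := basisOfLinearIndependentOfCardEqFinrank h4 (by simp)
  set c : Fin 4 → k := fun i => b.repr (p 4) i with hc
  have hsum : c 0 • p 0 + c 1 • p 1 + c 2 • p 2 + c 3 • p 3 = p 4 := by
    conv_rhs => rw [← b.sum_repr (p 4), Fin.sum_univ_four]
    simp [b, hc]
  have hc0 : ∀ i, c i ≠ 0 := by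
    intro i h
    fin_cases i <;> simp only [Fin.zero_eta, Fin.mk_one, Fin.reduceFinMk] at h
    · have := Fintype.linearIndependent_iff.1 (hgen 0) ![c 1, c 2, c 3, -1] (by
        simp [Fin.sum_univ_four, Fin.succAbove, ← hsum, h]; abel)
      simpa using this 3
    · have := Fintype.linearIndependent_iff.1 (hgen 1) ![c 0, c 2, c 3, -1] (by
        simp [Fin.sum_univ_four, Fin.succAbove, ← hsum, h]; abel)
      simpa using this 3
    · have := Fintype.linearIndependent_iff.1 (hgen 2) ![c 0, c 1, c 3, -1] (by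
        simp [Fin.sum_univ_four, Fin.succAbove, ← hsum, h]; abel)
      simpa using this 3
    · have := Fintype.linearIndependent_iff.1 (hgen 3) ![c 0, c 1, c 2, -1] (by
        simp [Fin.sum_univ_four, Fin.succAbove, ← hsum, h]; abel)
      simpa using this 3
  let w : Fin 4 → kˣ := fun i => Units.mk0 (c i) (hc0 i)
  let e := b.unitsSMul w
  have he : ∀ i, e i = c i • p i.castSucc := fun i => by
    fin_cases i <;> simp [e, b, w, Basis.unitsSMul_apply, Units.smul_def]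
  let y : Fin 4 → MvPolynomial (Fin 4) k := fun i => ∑ j, C (e.repr (Pi.single j 1) i) * X j
  have hy : ∀ v i, eval v (y i) = e.repr v i := fun v i => by
    conv_rhs => rw [pi_eq_sum_univ' v, map_sum, Finsupp.finsetSum_apply]
    simp only [y, map_sum, map_mul, eval_C, eval_X, map_smul, Finsupp.smul_apply, smul_eq_mul]
    exact Finset.sum_congr rfl fun j _ => mul_comm _ _
  let T : Fin 4 → Fin 4 → Fin 4 → k := fun i j l => G.T (e i) (e j) (e l)
  have hpure : ∀ i, G.F (e i) = 0 := fun i => by rw [he, G.F_smul, ← hG, hp, mul_zero]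
  have hF : ∀ v, eval v f = value T (fun i => e.repr v i) := fun v => by
    rw [hG, ← F_comb₄ G e hpure, e.sum_repr]
  have h1 : value T (fun _ => 1) = 0 := by
    rw [← F_comb₄ G e hpure]
    simp only [one_smul, Fin.sum_univ_four, he]
    simpa [hsum, ← hG] using hp 4
  let l : Fin 5 → MvPolynomial (Fin 4) k := fun i => ∑ j, C (coeffs T (Pi.single j 1) i) * y j
  have hy1 : ∀ i, (y i).IsHomogeneous 1 := fun i =>
    IsHomogeneous.sum _ _ _ fun j _ => (isHomogeneous_X k j).C_mul _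
  have hl : ∀ i, (l i).IsHomogeneous 1 := fun i =>
    IsHomogeneous.sum _ _ _ fun j _ => (hy1 j).C_mul _
  refine ⟨mat y l, isHomogeneous_mat hy1 hl, transpose_mat _ _, diag_mat _ _, 1, one_ne_zero, ?_⟩
  rw [det_mat, map_one, one_mul]
  congr 1
  refine MvPolynomial.funext fun v => ?_
  have hlv : ∀ i, eval v (l i) = coeffs T (fun j => e.repr v j) i := fun i => by
    rw [coeffs_eq_sum T (fun j => e.repr v j) i]
    simp [l, hy, mul_comm]
  rw [hF, ← comb_coeffs T _ h1]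
  simp [comb, hy, hlv]

end Groth.Agent.CubicT.Pfaffian
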