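import Mathlib
import Groth.Agent.CubicT.Basic
import Groth.Agent.CubicLib.SingularLines
import Groth.Agent.FanoX.Finite

/-!
# Lines and T-points of irreducible cubic surfaces

An irreducible cubic surface which is not a cone has finitely many lines or is singular along a
line. In both cases its T-points lie on finitely many lines.
-/

noncomputable section

namespace Groth.Agent.CubicT

open CubicLib Module

universe u

variable {K : Type u} [Field K] [IsAlgClosed K] [CharZero K] {G : Cubic K (Fin 4 → K)}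

local notation "V" => Fin 4 → K

theorem Good.no_plane (hg : Good G) {P : Submodule K V} (hP : finrank K P = 3) :
    ¬ ∀ u ∈ P, G.F u = 0 := fun h => by
  obtain ⟨u, hu, hu'⟩ := no_hyperplane hg.irr P hP
  exact hu' (h u hu)

omit [IsAlgClosed K] [CharZero K] in
theorem isLine_span {x y : V} (hx : G.F x = 0) (hy : G.F y = 0) (h₁ : G.T x x y = 0)
    (h₂ : G.T x y y = 0) (hxy : LinearIndependent K ![x, y]) :
    IsLine G (Submodule.span K {x, y}) := by
  refine ⟨finrank_span_pair' hxy, fun u hu => ?_⟩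
  obtain ⟨s, t, rfl⟩ := Submodule.mem_span_pair.1 hu
  rw [G.F_comb₂, hx, hy, h₁, h₂]
  ring

omit [IsAlgClosed K] [CharZero K] in
theorem li_pair {x y : V} (hx : x ≠ 0) (hy : y ∉ Submodule.span K {x}) :
    LinearIndependent K ![x, y] := by
  rw [LinearIndependent.pair_iff]
  intro s t h
  have ht : t = 0 := by
    by_contra ht
    refine hy (Submodule.mem_span_singleton.2 ⟨-(s / t), funext fun i => ?_⟩)
    have := congrFun h i
    simp only [Pi.add_apply, Pi.smul_apply, smul_eq_mul, Pi.zero_apply] at this ⊢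
    field_simp
    linear_combination -this
  subst ht
  rw [zero_smul, add_zero] at h
  exact ⟨(smul_eq_zero.1 h).resolve_right hx, rfl⟩

omit [IsAlgClosed K] [CharZero K] in
theorem finrank_sup_span {U : Submodule K V} {n : ℕ} (hU : finrank K U = n) {x : V} (hx : x ∉ U) :
    finrank K ↥(U ⊔ Submodule.span K {x}) = n + 1 := by
  have hx0 : x ≠ 0 := fun h => hx (h ▸ U.zero_mem)
  have h := Submodule.finrank_sup_add_finrank_inf_eq U (Submodule.span K {x})
  have hi : U ⊓ Submodule.span K {x} = ⊥ := (Submodule.disjoint_span_singleton' hx0).2 hx |>.eq_bot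
  rw [hi, finrank_bot, hU, finrank_span_singleton hx0] at h
  omega

omit [IsAlgClosed K] [CharZero K] in
theorem eq_ker {P : Submodule K V} (hP : finrank K P = 3) {φ : (Fin 4 → K) →ₗ[K] K} (hφ : φ ≠ 0)
    (h : P ≤ LinearMap.ker φ) : P = LinearMap.ker φ :=
  Submodule.eq_of_le_of_finrank_le h (by rw [hP, finrank_ker hφ])

/-- Finitely many lines, or a double line. -/
theorem finite_or_double (hg : Good G) (f : MvPolynomial (Fin 4) K) (hf : f.IsHomogeneous 3)
    (hG : ∀ v, MvPolynomial.eval v f = G.F v)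
    (hG' : ∀ v i, MvPolynomial.eval v (MvPolynomial.pderiv i f) = 3 * G.T v v (Pi.single i 1)) :
    {U : Submodule K V | IsLine G U}.Finite ∨
      ∃ D : Submodule K V, finrank K D = 2 ∧ ∀ u ∈ D, G.T u u = 0 := by
  classical
  by_cases hs : ∀ v : V, v ≠ 0 → G.F v = 0 → G.T v v ≠ 0
  · refine Or.inl ?_
    have h := FanoX.Finite.finite_lines le_rfl f hf fun v hv h0 =>
      (smooth_iff hG' v).2 (hs v hv (by rw [← hG, h0]))
    simpa only [hG, IsLine] using h
  rw [or_iff_not_imp_right]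
  intro hD
  push Not at hs hD
  obtain ⟨τ, hτ0, hFτ, hτ⟩ := hs
  set S₀ := {U : Submodule K V | τ ∈ U ∧ finrank K U = 2 ∧ ∀ u ∈ U, G.F u = 0} with hS₀
  have hS₀f : S₀.Finite := Set.finite_of_encard_le_coe (k := 6)
    (lines_singular hg.irr hτ0 (fun w => by rw [hτ]; rfl) (hg.cone τ hτ0))
  have hw : ∀ R ∈ S₀, ∃ w ∈ R, w ∉ Submodule.span K {τ} ∧ R = Submodule.span K {τ, w} :=
    fun R hR => Cubic.exists_other hR.2.1 hR.1 hτ0
  choose! w hwR hwτ hRw using hw
  let PS : Set (Submodule K V) := (fun p => p.1 ⊔ p.2) '' (S₀ ×ˢ S₀) ∪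
    ((fun R => LinearMap.ker (G.T τ (w R))) '' S₀ ∪ (fun R => LinearMap.ker (G.T (w R) (w R))) '' S₀)
  have hPS : PS.Finite := ((hS₀f.prod hS₀f).image _).union ((hS₀f.image _).union (hS₀f.image _))
  let O := {U : Submodule K V | IsLine G U ∧ τ ∉ U}
  suffices hO : O.Finite by
    refine (hS₀f.union hO).subset fun U hU => ?_
    by_cases hτU : τ ∈ U
    · exact Or.inl ⟨hτU, hU.1, hU.2⟩
    · exact Or.inr ⟨hU, hτU⟩
  have hexp : ∀ (u : V) (c : K), G.F (u + c • τ) = G.F u + 3 * c * G.T τ u u := fun u c => by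
    have h := F_adapted G (fun w => by rw [hτ]; rfl) c u
    rw [add_comm, h]; ring
  have hq : ∀ (u : V) (c : K), G.T τ (u + c • τ) (u + c • τ) = G.T τ u u := fun u c => by
    simp only [map_add, map_smul, LinearMap.add_apply, LinearMap.smul_apply, smul_eq_mul,
      G.symm₂₃ τ u τ, hτ, LinearMap.zero_apply]
    ring
  refine Set.Finite.of_finite_image (f := fun U => U ⊔ Submodule.span K {τ}) (hPS.subset ?_) ?_
  · rintro _ ⟨U, ⟨hU, hτU⟩, rfl⟩
    set P := U ⊔ Submodule.span K {τ} with hPdef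
    have hP : finrank K P = 3 := finrank_sup_span hU.1 hτU
    have hτP : τ ∈ P := le_sup_right (a := U) (Submodule.mem_span_singleton_self τ)
    obtain ⟨b, hb⟩ := exists_linearIndependent_of_le_finrank hU.1.ge
    obtain ⟨s, t, hst, hz⟩ := exists_isotropic_pair G τ (b 0 : V) (b 1 : V)
    set u₁ : V := s • (b 0 : V) + t • (b 1 : V) with hu₁
    have hu₁U : u₁ ∈ U := add_mem (U.smul_mem _ (b 0).2) (U.smul_mem _ (b 1).2)
    have hu₁0 : u₁ ≠ 0 := fun h => by
      have hb' : LinearIndependent K ![b 0, b 1] := by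
        have e : ![b 0, b 1] = b := by funext i; fin_cases i <;> rfl
        rw [e]; exact hb
      obtain ⟨h0, h1⟩ := LinearIndependent.pair_iff.1 hb' s t (Subtype.ext h)
      simp [h0, h1] at hst
    have hFu₁ : G.F u₁ = 0 := hU.2 _ hu₁U
    have hττ : ∀ x, G.T τ τ x = 0 := fun x => by rw [hτ]; rfl
    have hmkR : ∀ u ∈ U, u ≠ 0 → G.T τ u u = 0 → Submodule.span K {τ, u} ∈ S₀ := by
      intro u hu hu0 hqu
      have hli : LinearIndependent K ![τ, u] := li_pair hτ0 fun h => by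
        obtain ⟨c, rfl⟩ := Submodule.mem_span_singleton.1 h
        exact hτU ((U.smul_mem_iff (left_ne_zero_of_smul hu0)).1 hu)
      exact ⟨Submodule.subset_span (by simp), (isLine_span hFτ (hU.2 u hu) (hττ u) hqu hli)⟩
    have hle : ∀ u ∈ U, Submodule.span K {τ, u} ≤ P := fun u hu => Submodule.span_le.2 (by
      rintro x (rfl | rfl)
      exacts [hτP, le_sup_left (b := Submodule.span K {τ}) hu])
    have hR := hmkR u₁ hu₁U hu₁0 hz
    obtain ⟨v, hvU, hvu, hUv⟩ := Cubic.exists_other hU.1 hu₁U hu₁0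
    by_cases hb1 : G.T τ u₁ v = 0
    swap
    · -- two distinct lines through the singular point
      set u₂ := (-(G.T τ v v) / (2 * G.T τ u₁ v)) • u₁ + v with hu₂
      have hu₂U : u₂ ∈ U := add_mem (U.smul_mem _ hu₁U) hvU
      have hu₂0 : u₂ ≠ 0 := fun h => hvu (by
        have h' : v = -((-(G.T τ v v) / (2 * G.T τ u₁ v)) • u₁) :=
          eq_neg_of_add_eq_zero_right h
        rw [h']
        exact neg_mem (Submodule.smul_mem _ _ (Submodule.mem_span_singleton_self _)))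
      have hz₂ : G.T τ u₂ u₂ = 0 := by
        simp only [hu₂, map_add, map_smul, LinearMap.add_apply, LinearMap.smul_apply, smul_eq_mul,
          hz, G.symm₂₃ τ v u₁]
        field_simp
        ring
      have hR' := hmkR u₂ hu₂U hu₂0 hz₂
      refine Or.inl ⟨(_, _), ⟨hR, hR'⟩, ?_⟩
      refine le_antisymm (sup_le (hle _ hu₁U) (hle _ hu₂U)) (sup_le ?_ ?_)
      · rw [hUv, Submodule.span_le]
        rintro x (rfl | rfl)
        · exact le_sup_left (b := Submodule.span K {τ, u₂}) (Submodule.subset_span (by simp))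
        · have h1 : u₂ ∈ Submodule.span K {τ, u₁} ⊔ Submodule.span K {τ, u₂} :=
            le_sup_right (a := Submodule.span K {τ, u₁}) (Submodule.subset_span (by simp))
          have h2 : u₁ ∈ Submodule.span K {τ, u₁} ⊔ Submodule.span K {τ, u₂} :=
            le_sup_left (b := Submodule.span K {τ, u₂}) (Submodule.subset_span (by simp))
          exact (Submodule.add_mem_iff_right _ (Submodule.smul_mem _ _ h2)).1 h1
      · rw [Submodule.span_singleton_le_iff_mem]
        exact le_sup_left (b := Submodule.span K {τ, u₂}) (Submodule.subset_span (by simp))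
    refine Or.inr ?_
    obtain ⟨α, β, hαβ⟩ := Submodule.mem_span_pair.1 (hRw _ hR ▸
      (Submodule.subset_span (by simp) : u₁ ∈ Submodule.span K ({τ, u₁} : Set V)))
    set w₀ := w (Submodule.span K {τ, u₁})
    have hβ : β ≠ 0 := fun h => hτU (by
      rw [h, zero_smul, add_zero] at hαβ
      rw [← hαβ] at hu₁U hu₁0
      exact (U.smul_mem_iff (left_ne_zero_of_smul hu₁0)).1 hu₁U)
    have hτw : G.T τ u₁ = β • G.T τ w₀ := by
      rw [← hαβ, map_add, map_smul, map_smul, hτ, smul_zero, zero_add]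
    have hker : ∀ φ : (Fin 4 → K) →ₗ[K] K, φ τ = 0 → φ u₁ = 0 → φ v = 0 → P ≤ LinearMap.ker φ := by
      intro φ h₀ h₁ h₂
      refine sup_le ?_ ((Submodule.span_singleton_le_iff_mem _ _).2 h₀)
      rw [hUv, Submodule.span_le]
      rintro x (rfl | rfl) <;> assumption
    by_cases hφ : G.T τ w₀ = 0
    swap
    · refine Or.inl ⟨_, hR, (eq_ker hP hφ ?_).symm⟩
      have hh : ∀ x, G.T τ u₁ x = 0 → G.T τ w₀ x = 0 := fun x hx => by
        rw [hτw, LinearMap.smul_apply, smul_eq_mul] at hx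
        exact (mul_eq_zero.1 hx).resolve_left hβ
      exact hker _ (hh _ (by rw [G.symm₂₃, hττ])) (hh _ hz) (hh _ hb1)
    have hψ : G.T u₁ u₁ = β ^ 2 • G.T w₀ w₀ := by
      rw [← hαβ]
      simp only [map_add, map_smul, LinearMap.add_apply, LinearMap.smul_apply, hτ, hφ,
        show G.T w₀ τ = 0 from LinearMap.ext fun x => by rw [G.symm₁₂, hφ]]
      module
    by_cases hψ0 : G.T w₀ w₀ = 0
    · exfalso
      obtain ⟨x, hx, hx'⟩ := hD _ (finrank_span_pair' (li_pair hτ0 (hwτ _ hR)))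
      obtain ⟨p, q, rfl⟩ := Submodule.mem_span_pair.1 hx
      refine hx' ?_
      have e : G.T w₀ τ = 0 := LinearMap.ext fun x => by rw [G.symm₁₂, hφ]
      simp only [w₀] at e hφ hψ0
      simp [map_add, map_smul, hτ, hφ, hψ0, e]
    refine Or.inr ⟨_, hR, (eq_ker hP hψ0 ?_).symm⟩
    have hh : ∀ x, G.T u₁ u₁ x = 0 → G.T w₀ w₀ x = 0 := fun x hx => by
      rw [hψ, LinearMap.smul_apply, smul_eq_mul] at hx
      exact (mul_eq_zero.1 hx).resolve_left (pow_ne_zero 2 hβ)
    exact hker _ (hh _ (by rw [G.symm₁₃, hz])) (hh _ hFu₁)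
      (hh _ (G.T_eq_zero_of_F hU.2 hu₁U hu₁U hvU))
  · intro U hU U' hU' (hP : U ⊔ _ = U' ⊔ _)
    refine (Submodule.eq_of_le_of_finrank_le (fun u' hu' => ?_) (by rw [hU.1.1, hU'.1.1])).symm
    by_contra hnot
    have key : ∀ x ∈ U', x ∉ U → G.T τ x x = 0 := by
      intro x hx hxU
      obtain ⟨u, hu, t, ht, rfl⟩ := Submodule.mem_sup.1 (hP ▸ le_sup_left (b := Submodule.span K {τ}) hx :
        x ∈ U ⊔ Submodule.span K {τ})
      obtain ⟨c, rfl⟩ := Submodule.mem_span_singleton.1 ht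
      have hc : c ≠ 0 := fun h => hxU (by rw [h, zero_smul, add_zero]; exact hu)
      have h := hU'.1.2 _ hx
      rw [hexp, hU.1.2 u hu, zero_add] at h
      rw [hq]
      exact (mul_eq_zero.1 h).resolve_left (mul_ne_zero three_ne_zero hc)
    have all : ∀ x ∈ U', G.T τ x x = 0 := by
      intro x hx
      by_cases hxU : x ∈ U
      · have h₁ := key (u' + x) (add_mem hu' hx) fun h => hnot ((Submodule.add_mem_iff_left _ hxU).1 h)
        have h₂ := key (u' - x) (sub_mem hu' hx) fun h => hnot (by simpa using add_mem h hxU)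
        have h₃ := key u' hu' hnot
        simp only [map_add, map_sub, LinearMap.add_apply, LinearMap.sub_apply, h₃] at h₁ h₂
        simpa using (show 2 * G.T τ x x = 0 by linear_combination h₁ + h₂)
      · exact key x hx hxU
    refine hg.no_plane (finrank_sup_span hU'.1.1 hU'.2) fun p hp => ?_
    obtain ⟨x, hx, t, ht, rfl⟩ := Submodule.mem_sup.1 hp
    obtain ⟨c, rfl⟩ := Submodule.mem_span_singleton.1 ht
    rw [hexp, hU'.1.2 x hx, all x hx]
    ring

/-- The two ways in which the section at a T-point passes through it. -/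
theorem IsT.cases (hg : Good G) {b : V} (hb : IsT G b) :
    (∃ M₁ M₂, IsLine G M₁ ∧ IsLine G M₂ ∧ b ∈ M₁ ∧ b ∈ M₂ ∧ M₁ ≠ M₂) ∨
      ∃ M, IsLine G M ∧ b ∈ M ∧ ∀ x ∈ M, ∀ w, G.T b b w = 0 → G.T x x w = 0 := by
  obtain ⟨hs, hF, l₁, l₂, l₃, hl⟩ := hb
  have hne : ∀ m₁ m₂ m₃ : (Fin 4 → K) →ₗ[K] K,
      (∀ w, G.T b b w = 0 → G.F w = m₁ w * m₂ w * m₃ w) → ∃ w, G.T b b w = 0 ∧ m₁ w ≠ 0 := by
    intro m₁ m₂ m₃ h
    by_contra! hall
    exact hg.no_plane (finrank_ker hs) fun w hw => by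
      rw [LinearMap.mem_ker] at hw
      rw [h w hw, hall w hw]; ring
  have main : ∀ m₁ m₂ m₃ : (Fin 4 → K) →ₗ[K] K,
      (∀ w, G.T b b w = 0 → G.F w = m₁ w * m₂ w * m₃ w) → m₁ b = 0 → m₂ b = 0 →
      (∃ M₁ M₂, IsLine G M₁ ∧ IsLine G M₂ ∧ b ∈ M₁ ∧ b ∈ M₂ ∧ M₁ ≠ M₂) ∨
        ∃ M, IsLine G M ∧ b ∈ M ∧ ∀ x ∈ M, ∀ w, G.T b b w = 0 → G.T x x w = 0 := by
    intro m₁ m₂ m₃ h h1 h2
    obtain ⟨w₁, hw₁, hw₁'⟩ := hne m₁ m₂ m₃ h
    obtain ⟨w₂, hw₂, hw₂'⟩ := hne m₂ m₁ m₃ fun w hw => by rw [h w hw]; ring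
    have hline : ∀ m : (Fin 4 → K) →ₗ[K] K, (∀ w, G.T b b w = 0 → m w = 0 → G.F w = 0) →
        ∀ w₀, G.T b b w₀ = 0 → m w₀ ≠ 0 → IsLine G (LinearMap.ker (G.T b b) ⊓ LinearMap.ker m) := by
      intro m hm w₀ hw₀ hw₀'
      refine ⟨?_, fun u hu => hm u (LinearMap.mem_ker.1 hu.1) (LinearMap.mem_ker.1 hu.2)⟩
      have hm0 : m ≠ 0 := fun h => hw₀' (by rw [h]; rfl)
      have h := Submodule.finrank_sup_add_finrank_inf_eq (LinearMap.ker (G.T b b)) (LinearMap.ker m)
      rw [finrank_ker hs, finrank_ker hm0] at h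
      have hlt : LinearMap.ker m < LinearMap.ker (G.T b b) ⊔ LinearMap.ker m :=
        lt_of_le_of_ne le_sup_right fun e => hw₀' (LinearMap.mem_ker.1
          (e ▸ le_sup_left (b := LinearMap.ker m) (LinearMap.mem_ker.2 hw₀)))
      have h' := Submodule.finrank_lt_finrank_of_lt hlt
      rw [finrank_ker hm0] at h'
      have h4 := Submodule.finrank_le (LinearMap.ker (G.T b b) ⊔ LinearMap.ker m)
      rw [Module.finrank_fin_fun] at h4
      omega
    have hL₁ := hline m₁ (fun w hw e => by rw [h w hw, e]; ring) w₁ hw₁ hw₁'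
    have hL₂ := hline m₂ (fun w hw e => by rw [h w hw, e]; ring) w₂ hw₂ hw₂'
    have hb₁ : b ∈ LinearMap.ker (G.T b b) ⊓ LinearMap.ker m₁ := Submodule.mem_inf.2 ⟨hF, h1⟩
    by_cases he : LinearMap.ker (G.T b b) ⊓ LinearMap.ker m₁ =
        LinearMap.ker (G.T b b) ⊓ LinearMap.ker m₂
    swap
    · exact Or.inl ⟨_, _, hL₁, hL₂, hb₁, Submodule.mem_inf.2 ⟨hF, h2⟩, he⟩
    refine Or.inr ⟨_, hL₁, hb₁, fun x hx w hw => ?_⟩
    obtain ⟨hxb, hx1⟩ := Submodule.mem_inf.1 hx
    obtain ⟨-, hx2⟩ := Submodule.mem_inf.1 (he ▸ hx)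
    rw [LinearMap.mem_ker] at hxb hx1 hx2
    have e := F_plus (G := G) x w
    rw [h (x + w) (by rw [map_add, hxb, hw, add_zero]), h (x - w) (by rw [map_sub, hxb, hw, sub_zero]),
      h w hw] at e
    simp only [map_add, map_sub, hx1, hx2] at e
    simpa using (show 6 * G.T x x w = 0 by linear_combination e)
  have hprod : l₁ b * l₂ b * l₃ b = 0 := by rw [← hl b hF, hF]
  have hder : ∀ w, G.T b b w = 0 →
      l₁ w * l₂ b * l₃ b + l₁ b * l₂ w * l₃ b + l₁ b * l₂ b * l₃ w = 0 := by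
    intro w hw
    have e := F_plus (G := G) b w
    have hF' : G.T b b b = 0 := hF
    rw [hw, hl (b + w) (by rw [map_add, hF', hw, add_zero]),
      hl (b - w) (by rw [map_sub, hF', hw, sub_zero]), hl w hw] at e
    simp only [map_add, map_sub] at e
    simpa using (show 2 * (l₁ w * l₂ b * l₃ b + l₁ b * l₂ w * l₃ b + l₁ b * l₂ b * l₃ w) = 0 by
      linear_combination -e)
  rcases mul_eq_zero.1 hprod with h | h3
  rcases mul_eq_zero.1 h with h1 | h2
  · by_cases h2 : l₂ b = 0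
    · exact main l₁ l₂ l₃ hl h1 h2
    by_cases h3 : l₃ b = 0
    · exact main l₁ l₃ l₂ (fun w hw => by rw [hl w hw]; ring) h1 h3
    obtain ⟨w, hw, hw'⟩ := hne l₁ l₂ l₃ hl
    exfalso
    have := hder w hw
    simp [h1, hw', h2, h3] at this
  · by_cases h1 : l₁ b = 0
    · exact main l₁ l₂ l₃ hl h1 h2
    by_cases h3 : l₃ b = 0
    · exact main l₂ l₃ l₁ (fun w hw => by rw [hl w hw]; ring) h2 h3
    obtain ⟨w, hw, hw'⟩ := hne l₂ l₁ l₃ fun w hw => by rw [hl w hw]; ring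
    exfalso
    have := hder w hw
    simp [h1, hw', h2, h3] at this
  · by_cases h1 : l₁ b = 0
    · exact main l₁ l₃ l₂ (fun w hw => by rw [hl w hw]; ring) h1 h3
    by_cases h2 : l₂ b = 0
    · exact main l₂ l₃ l₁ (fun w hw => by rw [hl w hw]; ring) h2 h3
    obtain ⟨w, hw, hw'⟩ := hne l₃ l₁ l₂ fun w hw => by rw [hl w hw]; ring
    exfalso
    have := hder w hw
    simp [h1, hw', h2, h3] at this

section Double

variable {D : Submodule K (Fin 4 → K)}

omit [IsAlgClosed K] in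
theorem T_double (hD : ∀ u ∈ D, G.T u u = 0) {d d' : V} (h : d ∈ D) (h' : d' ∈ D) : G.T d d' = 0 :=
  LinearMap.ext fun w => by
    have e := congrArg (fun φ : (Fin 4 → K) →ₗ[K] K => φ w) (hD _ (add_mem h h'))
    simp only [map_add, LinearMap.add_apply, hD d h, hD d' h', LinearMap.zero_apply,
      G.symm₁₂ d' d w] at e
    simpa using (show 2 * G.T d d' w = 0 by linear_combination e)

omit [IsAlgClosed K] in
theorem F_double (hD : ∀ u ∈ D, G.T u u = 0) (v : V) {δ : V} (hδ : δ ∈ D) :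
    G.F (v + δ) = G.F v + 3 * G.T v v δ := by
  have h := G.F_add_smul v δ 1
  rw [one_smul] at h
  rw [h, show G.T v δ δ = 0 by rw [G.symm₁₃, hD δ hδ]; rfl, show G.F δ = 0 by
    show G.T δ δ δ = 0; rw [hD δ hδ]; rfl]
  ring

/-- The tangent functional at a point off the double line is nonzero on it. -/
theorem exists_ne_zero_on (hg : Good G) (hDr : finrank K D = 2) (hD : ∀ u ∈ D, G.T u u = 0)
    {b : V} (hb : b ∉ D) (hFb : G.F b = 0) : ∃ δ ∈ D, G.T b b δ ≠ 0 := by
  by_contra! h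
  refine hg.no_plane (finrank_sup_span hDr hb) fun p hp => ?_
  obtain ⟨δ, hδ, t, ht, rfl⟩ := Submodule.mem_sup.1 hp
  obtain ⟨c, rfl⟩ := Submodule.mem_span_singleton.1 ht
  rw [add_comm, F_double hD _ hδ, G.F_smul, hFb]
  simp only [map_smul, LinearMap.smul_apply, smul_eq_mul, h δ hδ]
  ring

/-- A plane through the double line contains one further line. -/
theorem ruling_unique (hg : Good G) (hDr : finrank K D = 2) (hD : ∀ u ∈ D, G.T u u = 0)
    {M M' : Submodule K V} (hM : IsLine G M) (hM' : IsLine G M') {d d' b b' : V}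
    (hd : d ∈ M) (hdD : d ∈ D) (hd0 : d ≠ 0) (hd' : d' ∈ M') (hd'D : d' ∈ D) (hd'0 : d' ≠ 0)
    (hb : b ∈ M) (hbD : b ∉ D) (hb' : b' ∈ M') (hb'D : b' ∉ D)
    (hbb : b' ∈ D ⊔ Submodule.span K {b}) : M = M' := by
  obtain ⟨δ, hδ, t, ht, rfl⟩ := Submodule.mem_sup.1 hbb
  obtain ⟨c, rfl⟩ := Submodule.mem_span_singleton.1 ht
  have hc : c ≠ 0 := fun h => hb'D (by rw [h, zero_smul, add_zero]; exact hδ)
  obtain ⟨δ₀, hδ₀, hne⟩ := exists_ne_zero_on hg hDr hD hbD (hM.2 b hb)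
  set φ := (G.T b b).domRestrict D
  have hφ : finrank K (LinearMap.ker φ) ≤ 1 := by
    have hlt : LinearMap.ker φ < ⊤ := lt_top_iff_ne_top.2 fun e => hne (by
      have : (⟨δ₀, hδ₀⟩ : D) ∈ LinearMap.ker φ := e ▸ Submodule.mem_top
      simpa [φ] using this)
    have := Submodule.finrank_lt_finrank_of_lt hlt
    rw [finrank_top, hDr] at this
    omega
  have hk : ∀ x : D, G.T b b x = 0 → (x : V) ∈ Submodule.span K {d} := fun x hx => by
    have hdk : (⟨d, hdD⟩ : D) ∈ LinearMap.ker φ := by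
      simpa [φ] using G.T_eq_zero_of_F hM.2 hb hb hd
    have e : Submodule.span K {(⟨d, hdD⟩ : D)} = LinearMap.ker φ :=
      Submodule.eq_of_le_of_finrank_le ((Submodule.span_singleton_le_iff_mem _ _).2 hdk)
        (by rw [finrank_span_singleton (fun e => hd0 (congrArg Subtype.val e))]; exact hφ)
    obtain ⟨r, hr⟩ := Submodule.mem_span_singleton.1 (e.symm ▸ (by simpa [φ] using hx :
      x ∈ LinearMap.ker φ))
    exact Submodule.mem_span_singleton.2 ⟨r, congrArg Subtype.val hr⟩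
  have hT : ∀ w ∈ D, G.T (δ + c • b) (δ + c • b) w = c ^ 2 * G.T b b w := fun w hw => by
    have h1 : G.T δ b w = 0 := by rw [G.symm₂₃, T_double hD hδ hw]; rfl
    simp only [map_add, map_smul, LinearMap.add_apply, LinearMap.smul_apply, smul_eq_mul,
      T_double hD hδ hδ, LinearMap.zero_apply, h1, G.symm₁₂ b δ w]
    ring
  have hc2 : c ^ 2 ≠ 0 := pow_ne_zero 2 hc
  have h1 : d' ∈ Submodule.span K {d} := hk ⟨d', hd'D⟩ (by
    have h := G.T_eq_zero_of_F hM'.2 hb' hb' hd'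
    rw [hT d' hd'D] at h
    exact (mul_eq_zero.1 h).resolve_left hc2)
  have h2 : δ ∈ Submodule.span K {d} := hk ⟨δ, hδ⟩ (by
    have h := hM'.2 _ hb'
    rw [add_comm, F_double hD _ hδ, G.F_smul, hM.2 b hb] at h
    simp only [map_smul, LinearMap.smul_apply, smul_eq_mul] at h
    exact (mul_eq_zero.1 (show c ^ 2 * G.T b b δ = 0 by linear_combination h / 3)).resolve_left hc2)
  have hdM : Submodule.span K {d} ≤ M := (Submodule.span_singleton_le_iff_mem _ _).2 hd
  have hli : LinearIndependent K ![d', δ + c • b] := li_pair hd'0 fun h => hb'D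
    ((Submodule.span_singleton_le_iff_mem _ _).2 hd'D h)
  rw [eq_line (hdM h1) (add_mem (hdM h2) (M.smul_mem c hb)) hM.1 hli, eq_line hd' hb' hM'.1 hli]

/-- At most one line is skew to the double line. -/
theorem skew_unique (hg : Good G) (hDr : finrank K D = 2) (hD : ∀ u ∈ D, G.T u u = 0)
    {E E' : Submodule K V} (hE : IsLine G E) (hE' : IsLine G E') (hED : D ⊓ E = ⊥)
    (hE'D : D ⊓ E' = ⊥) : E = E' := by
  by_contra hne
  have hc : ∀ {M : Submodule K V}, IsLine G M → D ⊓ M = ⊥ → IsCompl D M := fun {M} hM h => by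
    refine ⟨disjoint_iff.2 h, codisjoint_iff.2 (Submodule.eq_top_of_finrank_eq ?_)⟩
    have e := Submodule.finrank_sup_add_finrank_inf_eq D M
    rw [h, finrank_bot, hDr, hM.1] at e
    rw [Module.finrank_fin_fun]
    omega
  set p := Submodule.projection D E' (hc hE' hE'D) with hp
  have hpD : ∀ v, p v ∈ D := fun v => Submodule.projection_apply_mem _ v
  have hpE : ∀ v, v - p v ∈ E' := fun v => by
    rw [← Submodule.projection_apply_eq_zero_iff (hc hE' hE'D), map_sub,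
      Submodule.projection_apply_left (hc hE' hE'D) ⟨p v, hpD v⟩]
    exact sub_self _
  have key : ∀ e ∈ E, G.T e e (p e) = 0 := fun e he => by
    have h := hE'.2 _ (hpE e)
    rw [sub_eq_add_neg, F_double hD _ (neg_mem (hpD e)), hE.2 e he, map_neg] at h
    simpa using h
  obtain ⟨B, hB⟩ := exists_linearIndependent_of_le_finrank hE.1.ge
  set e₀ : V := (B 0 : V) with he₀
  set e₁ : V := (B 1 : V) with he₁
  have hli : LinearIndependent K ![e₀, e₁] := by
    have e : ![e₀, e₁] = E.subtype ∘ B := by funext i; fin_cases i <;> rfl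
    rw [e]; exact hB.map' _ E.ker_subtype
  have hspan : Submodule.span K {e₀, e₁} = E := Submodule.eq_of_le_of_finrank_eq
    (Submodule.span_le.2 (by rintro x (rfl | rfl); exacts [(B 0).2, (B 1).2]))
    (by rw [finrank_span_pair' hli, hE.1])
  have hxy : ∀ x y : K, x • e₀ + y • e₁ ∈ E := fun x y =>
    add_mem (E.smul_mem _ (B 0).2) (E.smul_mem _ (B 1).2)
  set d₀ := p e₀
  set d₁ := p e₁
  have hexp : ∀ x y : K, ∀ w, G.T (x • e₀ + y • e₁) (x • e₀ + y • e₁) w =
      x ^ 2 * G.T e₀ e₀ w + 2 * x * y * G.T e₀ e₁ w + y ^ 2 * G.T e₁ e₁ w := fun x y w => by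
    simp only [map_add, map_smul, LinearMap.add_apply, LinearMap.smul_apply, smul_eq_mul,
      G.symm₁₂ e₁ e₀ w]
    ring
  have hid : ∀ x y : K, x * (x ^ 2 * G.T e₀ e₀ d₀ + 2 * x * y * G.T e₀ e₁ d₀ + y ^ 2 * G.T e₁ e₁ d₀)
      + y * (x ^ 2 * G.T e₀ e₀ d₁ + 2 * x * y * G.T e₀ e₁ d₁ + y ^ 2 * G.T e₁ e₁ d₁) = 0 := by
    intro x y
    have h := key _ (hxy x y)
    rw [show p (x • e₀ + y • e₁) = x • d₀ + y • d₁ by rw [map_add, map_smul, map_smul], map_add,
      map_smul, map_smul, hexp, hexp] at h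
    exact h
  have q₀ : G.T e₀ e₀ d₀ = 0 := by linear_combination hid 1 0
  have q₃ : G.T e₁ e₁ d₁ = 0 := by linear_combination hid 0 1
  have q₁ : G.T e₀ e₀ d₁ + 2 * G.T e₀ e₁ d₀ = 0 := by
    linear_combination (hid 1 1 - hid 1 (-1)) / 2 - q₃
  have q₂ : G.T e₁ e₁ d₀ + 2 * G.T e₀ e₁ d₁ = 0 := by
    linear_combination (hid 1 1 + hid 1 (-1)) / 2 - q₀
  have hdec : ∀ v : V, ∃ x y : K, ∃ δ ∈ D, v = x • e₀ + y • e₁ + δ := fun v => by
    obtain ⟨δ, hδ, e, he, rfl⟩ := Submodule.mem_sup.1 ((hc hE hED).sup_eq_top.symm ▸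
      Submodule.mem_top : v ∈ D ⊔ E)
    obtain ⟨x, y, rfl⟩ := Submodule.mem_span_pair.1 (hspan.symm ▸ he)
    exact ⟨x, y, δ, hδ, add_comm _ _⟩
  have hcone : ∀ d ∈ D, d ≠ 0 → G.T e₀ e₀ d = 0 → G.T e₀ e₁ d = 0 → G.T e₁ e₁ d = 0 → False := by
    intro d hd hd0 h₀ h₁ h₂
    have hq : ∀ v, G.T v v d = 0 := fun v => by
      obtain ⟨x, y, δ, hδ, rfl⟩ := hdec v
      have h1 : ∀ u, G.T u δ d = 0 := fun u => by rw [G.symm₁₃, T_double hD hd hδ]; rfl
      have h2 : ∀ u, G.T δ u d = 0 := fun u => by rw [G.symm₁₂, h1]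
      simp only [map_add, map_smul, LinearMap.add_apply, LinearMap.smul_apply, smul_eq_mul, h₀,
        h₁, h₂, h1, h2, G.symm₁₂ e₁ e₀ d]
      ring
    refine hg.cone d hd0 (LinearMap.ext fun u => LinearMap.ext fun v => ?_)
    have h := hq (u + v)
    simp only [map_add, LinearMap.add_apply, hq u, hq v, G.symm₁₂ v u d] at h
    rw [G.symm₁₂, G.symm₂₃]
    simpa using (show 2 * G.T u v d = 0 by linear_combination h)
  by_cases hli' : LinearIndependent K ![d₀, d₁]
  · have h4 : LinearIndependent K ![e₀, e₁, d₀, d₁] := by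
      rw [Fintype.linearIndependent_iff]
      intro g hgz
      simp only [Fin.sum_univ_four, Matrix.cons_val_zero, Matrix.cons_val_one, Matrix.cons_val] at hgz
      have h1 : g 0 • e₀ + g 1 • e₁ = -(g 2 • d₀ + g 3 • d₁) := eq_neg_of_add_eq_zero_left (by
        rw [← hgz]; abel)
      have h0 : g 0 • e₀ + g 1 • e₁ = 0 := (Submodule.mem_bot K).1 (hED ▸ Submodule.mem_inf.2
        ⟨h1 ▸ neg_mem (add_mem (D.smul_mem _ (hpD _)) (D.smul_mem _ (hpD _))), hxy _ _⟩)
      rw [h0, eq_comm, neg_eq_zero] at h1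
      obtain ⟨g0, g1⟩ := LinearIndependent.pair_iff.1 hli _ _ h0
      obtain ⟨g2, g3⟩ := LinearIndependent.pair_iff.1 hli' _ _ h1
      intro i; fin_cases i <;> assumption
    let bas := basisOfLinearIndependentOfCardEqFinrank h4 (by simp)
    let α := bas.coord
    refine hg.irr ((3 * G.T e₀ e₀ d₁) • α 0 - (3 * G.T e₁ e₁ d₀) • α 1)
      ((LinearMap.mul K K).compl₁₂ (α 0) (α 3) - (LinearMap.mul K K).compl₁₂ (α 1) (α 2)) fun v => ?_
    have hv : v = α 0 v • e₀ + α 1 v • e₁ + (α 2 v • d₀ + α 3 v • d₁) := by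
      conv_lhs => rw [← bas.sum_repr v, Fin.sum_univ_four]
      simp [bas, α, add_assoc]
    generalize ha0 : α 0 v = x at hv ⊢
    generalize ha1 : α 1 v = y at hv ⊢
    generalize ha2 : α 2 v = z at hv ⊢
    generalize ha3 : α 3 v = t at hv ⊢
    simp only [LinearMap.sub_apply, LinearMap.smul_apply, smul_eq_mul, LinearMap.compl₁₂_apply,
      LinearMap.mul_apply', ha0, ha1, ha2, ha3]
    rw [hv, F_double hD _ (add_mem (D.smul_mem _ (hpD _)) (D.smul_mem _ (hpD _))),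
      hE.2 _ (hxy x y), map_add, map_smul, map_smul, hexp, hexp]
    simp only [smul_eq_mul]
    linear_combination 3 * z * x ^ 2 * q₀ + 3 * t * y ^ 2 * q₃ + 3 * z * x * y * q₁ + 3 * t * x * y * q₂
  · obtain ⟨d, hd, hd0, a, b, ha, hb, hab⟩ : ∃ d ∈ D, d ≠ 0 ∧ ∃ a b : K,
        d₀ = a • d ∧ d₁ = b • d ∧ (a ≠ 0 ∨ b ≠ 0) := by
      by_cases h0 : d₀ = 0
      · by_cases h1 : d₁ = 0
        · exfalso
          refine hne (Submodule.eq_of_le_of_finrank_le ?_ (by rw [hE.1, hE'.1]))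
          rw [← hspan, Submodule.span_le]
          rintro x (rfl | rfl)
          · simpa [d₀, h0] using (show e₀ - d₀ ∈ E' from hpE e₀)
          · simpa [d₁, h1] using (show e₁ - d₁ ∈ E' from hpE e₁)
        · exact ⟨d₁, hpD _, h1, 0, 1, by rw [h0, zero_smul], (one_smul _ _).symm, Or.inr one_ne_zero⟩
      · rw [linearIndependent_fin2] at hli'
        push Not at hli'
        by_cases h1 : d₁ = 0
        · exact ⟨d₀, hpD _, h0, 1, 0, (one_smul _ _).symm, by rw [h1, zero_smul], Or.inl one_ne_zero⟩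
        · obtain ⟨a, ha⟩ := hli' (by simpa using h1)
          exact ⟨d₁, hpD _, h1, a, 1, by simpa using ha.symm, (one_smul _ _).symm, Or.inr one_ne_zero⟩
    simp only [ha, hb, map_smul, smul_eq_mul] at q₀ q₁ q₂ q₃
    rcases hab with h | h
    · have r₀ : G.T e₀ e₀ d = 0 := (mul_eq_zero.1 q₀).resolve_left h
      have r₁ : G.T e₀ e₁ d = 0 := by
        rw [r₀, mul_zero, zero_add] at q₁; simpa [h] using q₁
      exact hcone d hd hd0 r₀ r₁ (by rw [r₁, mul_zero, mul_zero, add_zero] at q₂; simpa [h] using q₂)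
    · have r₂ : G.T e₁ e₁ d = 0 := (mul_eq_zero.1 q₃).resolve_left h
      have r₁ : G.T e₀ e₁ d = 0 := by
        rw [r₂, mul_zero, zero_add] at q₂; simpa [h] using q₂
      exact hcone d hd hd0 (by rw [r₁, mul_zero, mul_zero, add_zero] at q₁; simpa [h] using q₁) r₁ r₂

/-- Torsal lines. -/
def torsal (G : Cubic K (Fin 4 → K)) (D : Submodule K (Fin 4 → K)) :
    Set (Submodule K (Fin 4 → K)) :=
  {M | IsLine G M ∧ ∃ b ∈ M, b ∉ D ∧ ∃ d ∈ M, d ∈ D ∧ d ≠ 0 ∧ G.T b d = 0}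

theorem torsal_finite (hg : Good G) (hDr : finrank K D = 2) (hD : ∀ u ∈ D, G.T u u = 0) :
    (torsal G D).Finite := by
  classical
  obtain ⟨W, hW⟩ := Submodule.exists_isCompl D
  have hWr : finrank K W = 2 := by
    have := Submodule.finrank_add_eq_of_isCompl hW
    rw [hDr, Module.finrank_fin_fun] at this
    omega
  let bW := Module.finBasisOfFinrankEq K W hWr
  let bD := Module.finBasisOfFinrankEq K D hDr
  set e₀ : V := (bW 0 : V)
  set e₁ : V := (bW 1 : V)
  set d₀ : V := (bD 0 : V)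
  set d₁ : V := (bD 1 : V)
  have hdec : ∀ v : V, ∃ x y : K, ∃ δ ∈ D, v = x • e₀ + y • e₁ + δ := fun v => by
    obtain ⟨δ, hδ, e, he, rfl⟩ := Submodule.mem_sup.1 (hW.sup_eq_top.symm ▸
      Submodule.mem_top : v ∈ D ⊔ W)
    refine ⟨bW.repr ⟨e, he⟩ 0, bW.repr ⟨e, he⟩ 1, δ, hδ, ?_⟩
    have h := congrArg Subtype.val (bW.sum_repr ⟨e, he⟩)
    rw [Fin.sum_univ_two] at h
    conv_lhs => rw [show e = _ from h.symm]
    simp [e₀, e₁, add_comm]
  let a : Fin 3 → K := ![G.T e₀ e₀ d₀, G.T e₀ e₁ d₀, G.T e₁ e₁ d₀]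
  let c : Fin 3 → K := ![G.T e₀ e₀ d₁, G.T e₀ e₁ d₁, G.T e₁ e₁ d₁]
  let P : Polynomial K := Polynomial.C (a 0 * c 1 - a 1 * c 0) +
    Polynomial.C (a 0 * c 2 - a 2 * c 0) * Polynomial.X +
    Polynomial.C (a 1 * c 2 - a 2 * c 1) * Polynomial.X ^ 2
  have hcone : ∀ r s : K, (r ≠ 0 ∨ s ≠ 0) → r * a 0 + s * c 0 = 0 → r * a 1 + s * c 1 = 0 →
      r * a 2 + s * c 2 = 0 → False := by
    intro r s hrs h₀ h₁ h₂
    simp only [a, c, Matrix.cons_val_zero, Matrix.cons_val_one, Matrix.cons_val] at h₀ h₁ h₂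
    have hd0 : r • d₀ + s • d₁ ≠ 0 := fun h => by
      have hli : LinearIndependent K ![bD 0, bD 1] := by
        have e : ![bD 0, bD 1] = bD := by funext i; fin_cases i <;> rfl
        rw [e]; exact bD.linearIndependent
      obtain ⟨rfl, rfl⟩ := LinearIndependent.pair_iff.1 hli r s (Subtype.ext h)
      simp at hrs
    have hdD : r • d₀ + s • d₁ ∈ D := add_mem (D.smul_mem _ (bD 0).2) (D.smul_mem _ (bD 1).2)
    have hw₀ : G.T e₀ e₀ (r • d₀ + s • d₁) = 0 := by simpa [map_add, map_smul] using h₀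
    have hw₁ : G.T e₀ e₁ (r • d₀ + s • d₁) = 0 := by simpa [map_add, map_smul] using h₁
    have hw₂ : G.T e₁ e₁ (r • d₀ + s • d₁) = 0 := by simpa [map_add, map_smul] using h₂
    generalize r • d₀ + s • d₁ = d at hd0 hdD hw₀ hw₁ hw₂
    have hq : ∀ v, G.T v v d = 0 := fun v => by
      obtain ⟨x, y, δ, hδ, rfl⟩ := hdec v
      have h1 : ∀ u, G.T u δ d = 0 := fun u => by rw [G.symm₁₃, T_double hD hdD hδ]; rfl
      have h2 : ∀ u, G.T δ u d = 0 := fun u => by rw [G.symm₁₂, h1]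
      simp only [map_add, map_smul, LinearMap.add_apply, LinearMap.smul_apply, smul_eq_mul, hw₀,
        hw₁, hw₂, h1, h2, G.symm₁₂ e₁ e₀ d]
      ring
    refine hg.cone d hd0 (LinearMap.ext fun u => LinearMap.ext fun v => ?_)
    have h := hq (u + v)
    simp only [map_add, LinearMap.add_apply, hq u, hq v, G.symm₁₂ v u d] at h
    rw [G.symm₁₂, G.symm₂₃]
    simpa using (show 2 * G.T u v d = 0 by linear_combination h)
  have hP : P ≠ 0 := fun h => by
    have m₀ := congrArg (Polynomial.coeff · 0) h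
    have m₁ := congrArg (Polynomial.coeff · 1) h
    have m₂ := congrArg (Polynomial.coeff · 2) h
    simp only [P, Polynomial.coeff_add, Polynomial.coeff_C_mul, Polynomial.coeff_X_pow,
      Polynomial.coeff_X, Polynomial.coeff_C, Polynomial.coeff_zero] at m₀ m₁ m₂
    norm_num at m₀ m₁ m₂
    by_cases h0 : a 0 = 0
    swap
    · exact hcone (c 0) (-a 0) (Or.inr (neg_ne_zero.2 h0)) (by ring)
        (by linear_combination -m₀) (by linear_combination -m₁)
    by_cases h1 : a 1 = 0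
    swap
    · exact hcone (c 1) (-a 1) (Or.inr (neg_ne_zero.2 h1)) (by linear_combination m₀) (by ring)
        (by linear_combination -m₂)
    by_cases h2 : a 2 = 0
    swap
    · exact hcone (c 2) (-a 2) (Or.inr (neg_ne_zero.2 h2)) (by linear_combination m₁)
        (by linear_combination m₂) (by ring)
    exact hcone 1 0 (Or.inl one_ne_zero) (by simp [h0]) (by simp [h1]) (by simp [h2])
  have hfin : ((fun t : K => D ⊔ Submodule.span K {e₀ + t • e₁}) '' {t | P.IsRoot t} ∪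
      {D ⊔ Submodule.span K {e₁}}).Finite :=
    ((Polynomial.finite_setOfPred_isRoot hP).image _).union (Set.finite_singleton _)
  refine Set.Finite.of_finite_image (f := fun M => D ⊔ M) (hfin.subset ?_) ?_
  · rintro _ ⟨M, ⟨hM, b, hb, hbD, d, hd, hdD, hd0, hT⟩, rfl⟩
    have hDM : D ⊔ M = D ⊔ Submodule.span K {b} := by
      refine le_antisymm (sup_le le_sup_left ?_)
        (sup_le_sup_left ((Submodule.span_singleton_le_iff_mem _ _).2 hb) _)
      rw [eq_line hd hb hM.1 (li_pair hd0 fun h => hbD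
        ((Submodule.span_singleton_le_iff_mem _ _).2 hdD h))]
      refine Submodule.span_le.2 ?_
      rintro x (rfl | rfl)
      · exact le_sup_left (b := Submodule.span K {b}) hdD
      · exact le_sup_right (a := D) (Submodule.mem_span_singleton_self _)
    obtain ⟨x, y, δ, hδ, rfl⟩ := hdec b
    have hnorm : ∀ (z : K), z ≠ 0 → ∀ w : V, x • e₀ + y • e₁ = z • w →
        D ⊔ Submodule.span K {x • e₀ + y • e₁ + δ} = D ⊔ Submodule.span K {w} := by
      intro z hz w hw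
      refine le_antisymm (sup_le le_sup_left ?_) (sup_le le_sup_left ?_) <;>
        rw [Submodule.span_singleton_le_iff_mem]
      · rw [hw]
        exact add_mem (Submodule.smul_mem _ z (le_sup_right (a := D)
          (Submodule.mem_span_singleton_self _))) (le_sup_left (b := Submodule.span K {w}) hδ)
      · have e : w = z⁻¹ • (x • e₀ + y • e₁ + δ - δ) := by
          rw [add_sub_cancel_right, hw, inv_smul_smul₀ hz]
        set S := D ⊔ Submodule.span K {x • e₀ + y • e₁ + δ}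
        rw [e]
        exact Submodule.smul_mem _ _ (sub_mem (le_sup_right (a := D)
          (Submodule.mem_span_singleton_self _)) (le_sup_left (b := Submodule.span K {x • e₀ + y • e₁ + δ}) hδ))
    change D ⊔ M ∈ _
    rw [hDM]
    by_cases hx : x = 0
    · refine Or.inr (hnorm y (fun hy => hbD (by simpa [hx, hy] using hδ)) e₁ ?_)
      rw [hx, zero_smul, zero_add]
    · refine Or.inl ⟨y / x, ?_, (hnorm x hx _ ?_).symm⟩
      · obtain ⟨r, s, hrs⟩ : ∃ r s : K, r • d₀ + s • d₁ = d := by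
          have h := congrArg Subtype.val (bD.sum_repr ⟨d, hdD⟩)
          rw [Fin.sum_univ_two] at h
          exact ⟨_, _, by simpa [d₀, d₁] using h⟩
        have hrs0 : r ≠ 0 ∨ s ≠ 0 := by
          by_contra! h
          exact hd0 (by rw [← hrs, h.1, h.2]; simp)
        have hev : ∀ w, G.T (x • e₀ + y • e₁ + δ) d w = x * G.T e₀ d w + y * G.T e₁ d w := fun w => by
          simp only [map_add, map_smul, LinearMap.add_apply, LinearMap.smul_apply, smul_eq_mul,
            T_double hD hδ hdD, LinearMap.zero_apply, add_zero]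
        have g₀ : x * G.T e₀ d e₀ + y * G.T e₁ d e₀ = 0 := by rw [← hev, hT]; rfl
        have g₁ : x * G.T e₀ d e₁ + y * G.T e₁ d e₁ = 0 := by rw [← hev, hT]; rfl
        rw [G.symm₂₃ e₀ d, G.symm₂₃ e₁ d] at g₀ g₁
        simp only [← hrs, map_add, map_smul, smul_eq_mul, G.symm₁₂ e₁ e₀] at g₀ g₁
        change P.IsRoot (y / x)
        simp only [Polynomial.IsRoot, P, Polynomial.eval_add, Polynomial.eval_mul,
          Polynomial.eval_C, Polynomial.eval_X, Polynomial.eval_pow]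
        set t := y / x with ht
        have hy : y = t * x := by rw [ht, div_mul_cancel₀ _ hx]
        simp only [a, c, Matrix.cons_val_zero, Matrix.cons_val_one, Matrix.cons_val]
        have g₀' : r * (G.T e₀ e₀ d₀ + t * G.T e₀ e₁ d₀) + s * (G.T e₀ e₀ d₁ + t * G.T e₀ e₁ d₁) = 0 :=
          mul_left_cancel₀ hx (by rw [mul_zero]; rw [hy] at g₀; linear_combination g₀)
        have g₁' : r * (G.T e₀ e₁ d₀ + t * G.T e₁ e₁ d₀) + s * (G.T e₀ e₁ d₁ + t * G.T e₁ e₁ d₁) = 0 :=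
          mul_left_cancel₀ hx (by rw [mul_zero]; rw [hy] at g₁; linear_combination g₁)
        rcases hrs0 with h | h
        · refine mul_left_cancel₀ h ?_
          rw [mul_zero]
          linear_combination (G.T e₀ e₁ d₁ + t * G.T e₁ e₁ d₁) * g₀' -
            (G.T e₀ e₀ d₁ + t * G.T e₀ e₁ d₁) * g₁'
        · refine mul_left_cancel₀ h ?_
          rw [mul_zero]
          linear_combination -(G.T e₀ e₁ d₀ + t * G.T e₁ e₁ d₀) * g₀' +
            (G.T e₀ e₀ d₀ + t * G.T e₀ e₁ d₀) * g₁'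
      · rw [smul_add, smul_smul, mul_div_cancel₀ _ hx]
  · rintro M ⟨hM, b, hb, hbD, d, hd, hdD, hd0, -⟩ M' ⟨hM', b', hb', hb'D, d', hd', hd'D, hd'0, -⟩
      (h : D ⊔ M = D ⊔ M')
    have hb'' : b' ∈ D ⊔ Submodule.span K {b} := by
      have h1 : b' ∈ D ⊔ M := h ▸ le_sup_right (a := D) hb'
      refine (sup_le le_sup_left ?_ : D ⊔ M ≤ _) h1
      rw [eq_line hd hb hM.1 (li_pair hd0 fun h => hbD
        ((Submodule.span_singleton_le_iff_mem _ _).2 hdD h))]
      refine Submodule.span_le.2 ?_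
      rintro x (rfl | rfl)
      · exact le_sup_left (b := Submodule.span K {b}) hdD
      · exact le_sup_right (a := D) (Submodule.mem_span_singleton_self _)
    exact ruling_unique hg hDr hD hM hM' hd hdD hd0 hd' hd'D hd'0 hb hbD hb' hb'D hb''

/-- Through a smooth point of the surface there is a line meeting the double line. -/
theorem exists_ruling (hDr : finrank K D = 2) (hD : ∀ u ∈ D, G.T u u = 0) {a : V} (hFa : G.F a = 0)
    (haD : a ∉ D) : ∃ M, IsLine G M ∧ a ∈ M ∧ D ⊓ M ≠ ⊥ := by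
  obtain ⟨δ, hδ, hδ0⟩ : ∃ δ : D, G.T a a δ = 0 ∧ δ ≠ 0 := by
    by_contra! h
    have hinj : Function.Injective ((G.T a a).domRestrict D) := by
      rw [injective_iff_map_eq_zero]
      exact fun x hx => h x (by simpa using hx)
    have := LinearMap.finrank_le_finrank_of_injective hinj
    rw [hDr, Module.finrank_self] at this
    omega
  have ha0 : a ≠ 0 := fun h => haD (h ▸ D.zero_mem)
  refine ⟨_, isLine_span hFa (show G.T δ.1 δ.1 δ.1 = 0 by rw [hD _ δ.2]; rfl) hδ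
    (by rw [G.symm₁₃, hD _ δ.2]; rfl) (li_pair ha0 fun h => ?_), Submodule.subset_span (by simp), ?_⟩
  · obtain ⟨c, hc⟩ := Submodule.mem_span_singleton.1 h
    have hc0 : c ≠ 0 := fun e => hδ0 (Subtype.ext (by rw [← hc, e, zero_smul]; rfl))
    exact haD ((D.smul_mem_iff hc0).1 (hc ▸ δ.2))
  · exact fun h => hδ0 (Subtype.ext ((Submodule.mem_bot K).1 (h ▸ Submodule.mem_inf.2
      ⟨δ.2, Submodule.subset_span (by simp)⟩)))

end Double

/-- The T-points lie on finitely many lines. -/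
theorem exists_cover (hg : Good G) (f : MvPolynomial (Fin 4) K) (hf : f.IsHomogeneous 3)
    (hG : ∀ v, MvPolynomial.eval v f = G.F v)
    (hG' : ∀ v i, MvPolynomial.eval v (MvPolynomial.pderiv i f) = 3 * G.T v v (Pi.single i 1)) :
    ∃ S : Set (Submodule K V), S.Finite ∧ (∀ M ∈ S, IsLine G M) ∧ ∀ b, IsT G b →
      (∃ M ∈ S, b ∈ M ∧ ∀ x ∈ M, ∀ w, G.T b b w = 0 → G.T x x w = 0) ∨
      ∃ M ∈ S, b ∈ M ∧ ∃ M', IsLine G M' ∧ b ∈ M' ∧ M ≠ M' ∧ (M' ∈ S ∨
        ∀ a ∈ M, G.T a a ≠ 0 → G.F a = 0 → ∃ N, IsLine G N ∧ a ∈ N ∧ N ≠ M) := by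
  rcases finite_or_double hg f hf hG hG' with hfin | ⟨D, hDr, hD⟩
  · refine ⟨_, hfin, fun M h => h, fun b hb => ?_⟩
    rcases hb.cases hg with ⟨M₁, M₂, h₁, h₂, b₁, b₂, hne⟩ | ⟨M, hM, hbM, hMd⟩
    · exact Or.inr ⟨M₁, h₁, b₁, M₂, h₂, b₂, hne, Or.inl h₂⟩
    · exact Or.inl ⟨M, hM, hbM, hMd⟩
  set Sk := {M : Submodule K V | IsLine G M ∧ D ⊓ M = ⊥}
  have hSk : Sk.Finite := Set.Subsingleton.finite fun E hE E' hE' =>
    skew_unique hg hDr hD hE.1 hE'.1 hE.2 hE'.2
  refine ⟨Sk ∪ torsal G D, hSk.union (torsal_finite hg hDr hD), ?_, fun b hb => ?_⟩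
  · rintro M (h | h) <;> exact h.1
  have hbD : b ∉ D := fun h => hb.1 (hD b h)
  have hpick : ∀ {M : Submodule K V}, D ⊓ M ≠ ⊥ → ∃ d ∈ M, d ∈ D ∧ d ≠ 0 := fun {M} h => by
    obtain ⟨d, hd, hd0⟩ := Submodule.exists_mem_ne_zero_of_ne_bot h
    exact ⟨d, (Submodule.mem_inf.1 hd).2, (Submodule.mem_inf.1 hd).1, hd0⟩
  have hskew : ∀ {M : Submodule K V}, IsLine G M → D ⊓ M = ⊥ →
      ∀ a ∈ M, G.T a a ≠ 0 → G.F a = 0 → ∃ N, IsLine G N ∧ a ∈ N ∧ N ≠ M := fun hM h a _ ha hFa => by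
    obtain ⟨N, hN, haN, hND⟩ := exists_ruling hDr hD hFa fun e => ha (hD a e)
    exact ⟨N, hN, haN, fun e => hND (e ▸ h)⟩
  rcases hb.cases hg with ⟨M₁, M₂, h₁, h₂, b₁, b₂, hne⟩ | ⟨M, hM, hbM, hMd⟩
  · by_cases k₁ : D ⊓ M₁ = ⊥
    · exact Or.inr ⟨M₁, Or.inl ⟨h₁, k₁⟩, b₁, M₂, h₂, b₂, hne, Or.inr (hskew h₁ k₁)⟩
    by_cases k₂ : D ⊓ M₂ = ⊥
    · exact Or.inr ⟨M₂, Or.inl ⟨h₂, k₂⟩, b₂, M₁, h₁, b₁, hne.symm, Or.inr (hskew h₂ k₂)⟩
    obtain ⟨d, hd, hdD, hd0⟩ := hpick k₁
    obtain ⟨d', hd', hd'D, hd'0⟩ := hpick k₂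
    exact absurd (ruling_unique hg hDr hD h₁ h₂ hd hdD hd0 hd' hd'D hd'0 b₁ hbD b₂ hbD
      (le_sup_right (a := D) (Submodule.mem_span_singleton_self b))) hne
  refine Or.inl ⟨M, ?_, hbM, hMd⟩
  by_cases k : D ⊓ M = ⊥
  · exact Or.inl ⟨hM, k⟩
  obtain ⟨d, hd, hdD, hd0⟩ := hpick k
  refine Or.inr ⟨hM, b, hbM, hbD, d, hd, hdD, hd0, ?_⟩
  obtain ⟨δ, hδ, hδne⟩ := exists_ne_zero_on hg hDr hD hbD hb.2.1
  refine LinearMap.ext fun v => ?_
  set r := G.T b b v / G.T b b δ
  have hker : G.T b b (v - r • δ) = 0 := by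
    rw [map_sub, map_smul, smul_eq_mul, div_mul_cancel₀ _ hδne, sub_self]
  have h := hMd (b + d) (add_mem hbM hd) _ hker
  simp only [map_add, LinearMap.add_apply, hker, T_double hD hdD hdD, LinearMap.zero_apply,
    G.symm₁₂ d b, map_sub, map_smul, smul_eq_mul] at h
  have hbdδ : G.T b d δ = 0 := by rw [G.symm₁₃, T_double hD hδ hdD]; rfl
  simp only [hbdδ, add_zero, mul_zero, sub_zero] at h
  simpa using (show 2 * G.T b d v = 0 by linear_combination h + div_mul_cancel₀ (G.T b b v) hδne)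

end Groth.Agent.CubicT
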