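import Mathlib
import Groth.Agent.CubicT.Lines

/-!
# The tangent plane at a point which is not a T-point
-/

noncomputable section

namespace Groth.Agent.CubicT

open CubicLib Module

universe u

variable {K : Type u} [Field K] [IsAlgClosed K] [CharZero K] {G : Cubic K (Fin 4 → K)}

local notation "V" => Fin 4 → K

omit [IsAlgClosed K] in
theorem isT_of_two_lines {a : V} (hs : G.T a a ≠ 0) (hF : G.F a = 0) {L L' : Submodule K V}
    (hL : IsLine G L) (hL' : IsLine G L') (ha : a ∈ L) (ha' : a ∈ L') (hne : L ≠ L') : IsT G a := by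
  have ha0 : a ≠ 0 := fun h => hs (by subst h; simp)
  obtain ⟨x, hx, hxa, hLx⟩ := Cubic.exists_other hL.1 ha ha0
  obtain ⟨y, hy, hya, hLy⟩ := Cubic.exists_other hL'.1 ha' ha0
  have hnot : y ∉ L := fun h => hne (by
    rw [eq_line ha h hL.1 (li_pair ha0 hya), eq_line ha' hy hL'.1 (li_pair ha0 hya)])
  have hsup : L ⊔ Submodule.span K {y} = LinearMap.ker (G.T a a) := eq_ker (finrank_sup_span hL.1 hnot) hs
    (sup_le (mem_ker_of_mem hL.2 ha) ((Submodule.span_singleton_le_iff_mem _ _).2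
      (mem_ker_of_mem hL'.2 ha' hy)))
  have hli : LinearIndependent K ![a, x, y] := by
    rw [Fintype.linearIndependent_iff]
    intro g hg
    simp only [Fin.sum_univ_three, Matrix.cons_val_zero, Matrix.cons_val_one, Matrix.cons_val] at hg
    have h2 : g 2 = 0 := by
      by_contra h
      refine hnot ((L.smul_mem_iff h).1 ?_)
      rw [show g 2 • y = -(g 0 • a + g 1 • x) from eq_neg_of_add_eq_zero_right hg]
      exact neg_mem (add_mem (L.smul_mem _ ha) (L.smul_mem _ hx))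
    rw [h2, zero_smul, add_zero] at hg
    obtain ⟨h0, h1⟩ := LinearIndependent.pair_iff.1 (li_pair ha0 hxa) _ _ hg
    intro i; fin_cases i <;> assumption
  obtain ⟨e, he⟩ := (Fintype.linearCombination K ![a, x, y]).exists_leftInverse_of_injective
    (LinearMap.ker_eq_bot.2 hli.fintypeLinearCombination_injective)
  refine ⟨hs, hF, (LinearMap.proj 1).comp e, (LinearMap.proj 2).comp e,
    (6 * G.T a x y) • (LinearMap.proj 0).comp e + (3 * G.T x x y) • (LinearMap.proj 1).comp e +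
      (3 * G.T x y y) • (LinearMap.proj 2).comp e, fun u hu => ?_⟩
  obtain ⟨l, hl, t, ht, rfl⟩ := Submodule.mem_sup.1 (hsup.symm ▸ LinearMap.mem_ker.2 hu :
    u ∈ L ⊔ Submodule.span K {y})
  obtain ⟨γ, rfl⟩ := Submodule.mem_span_singleton.1 ht
  obtain ⟨α, β, rfl⟩ := Submodule.mem_span_pair.1 (hLx ▸ hl)
  have hc : e (α • a + β • x + γ • y) = ![α, β, γ] := by
    rw [show α • a + β • x + γ • y = Fintype.linearCombination K ![a, x, y] ![α, β, γ] by
      simp [Fintype.linearCombination_apply, Fin.sum_univ_three]]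
    exact LinearMap.congr_fun he _
  obtain ⟨h1, h2, h3⟩ := Cubic.T_e_line ha hx hL.2
  obtain ⟨k1, k2, k3⟩ := Cubic.T_e_line ha' hy hL'.2
  simp only [LinearMap.add_apply, LinearMap.smul_apply, LinearMap.comp_apply, LinearMap.proj_apply,
    hc, smul_eq_mul, G.F_comb₃, hF, h1, h2, h3, k1, k2, k3]
  simp only [Matrix.cons_val_zero, Matrix.cons_val_one, Matrix.cons_val]
  ring

omit [IsAlgClosed K] in
/-- A line of the tangent plane cannot be a double line of the section at a T-point. -/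
theorem not_double {a b : V} (hs : G.T a a ≠ 0) (hF : G.F a = 0) (hn : ¬ IsT G a) (hb : IsT G b)
    {M : Submodule K V} (hMd : ∀ x ∈ M, ∀ w, G.T b b w = 0 → G.T x x w = 0) : a ∉ M := by
  intro ha
  obtain ⟨hbs, -, l₁, l₂, l₃, hl⟩ := hb
  have e : LinearMap.ker (G.T b b) = LinearMap.ker (G.T a a) :=
    eq_ker (finrank_ker hbs) hs fun w hw => LinearMap.mem_ker.2 (hMd a ha w (LinearMap.mem_ker.1 hw))
  exact hn ⟨hs, hF, l₁, l₂, l₃, fun w hw =>
    hl w (LinearMap.mem_ker.1 (e.symm ▸ LinearMap.mem_ker.2 hw))⟩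

/-- Finitely many T-points in the tangent plane. -/
theorem finite_tangent (hg : Good G) (f : MvPolynomial (Fin 4) K) (hf : f.IsHomogeneous 3)
    (hG : ∀ v, MvPolynomial.eval v f = G.F v)
    (hG' : ∀ v i, MvPolynomial.eval v (MvPolynomial.pderiv i f) = 3 * G.T v v (Pi.single i 1))
    {a : V} (hs : G.T a a ≠ 0) (hF : G.F a = 0) (hn : ¬ IsT G a) :
    {U : Submodule K V | finrank K U = 1 ∧ U ≤ LinearMap.ker (G.T a a) ∧
      ∀ b ∈ U, b ≠ 0 → IsT G b}.Finite := by
  obtain ⟨S, hS, hSl, hcov⟩ := exists_cover hg f hf hG hG'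
  set H := LinearMap.ker (G.T a a)
  refine (hS.image fun M => M ⊓ H).subset ?_
  rintro U ⟨hU, hUH, hUT⟩
  obtain ⟨b, hbU, hb0⟩ := Submodule.exists_mem_ne_zero_of_ne_bot (p := U) fun h => by
    rw [h, finrank_bot] at hU; exact zero_ne_one hU
  have hUb : U = Submodule.span K {b} := (Submodule.eq_of_le_of_finrank_le
    ((Submodule.span_singleton_le_iff_mem _ _).2 hbU) (by rw [finrank_span_singleton hb0, hU])).symm
  have hb := hUT b hbU hb0
  have hfin : ∀ M ∈ S, b ∈ M → ¬ M ≤ H → U ∈ (fun M => M ⊓ H) '' S := fun M hM hbM hMH =>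
    ⟨M, hM, by rw [hUb]; exact inf_le_span (hSl M hM).1 hMH hb0 hbM (hUH hbU)⟩
  rcases hcov b hb with ⟨M, hM, hbM, hMd⟩ | ⟨M, hM, hbM, M', hM', hbM', hne, h⟩
  · exact hfin M hM hbM fun h => not_double hs hF hn hb hMd (mem_of_line hs hF hn (hSl M hM) h)
  by_cases hMH : M ≤ H
  swap
  · exact hfin M hM hbM hMH
  have haM := mem_of_line hs hF hn (hSl M hM) hMH
  rcases h with h | h
  · exact hfin M' h hbM' fun hM'H => hne (by
      by_contra e
      exact hn (isT_of_two_lines hs hF (hSl M hM) hM' haM (mem_of_line hs hF hn hM' hM'H) e))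
  · obtain ⟨N, hN, haN, hNM⟩ := h a haM hs hF
    exact absurd (isT_of_two_lines hs hF (hSl M hM) hN haM haN hNM.symm) hn

/-- The first polar meets the tangent plane in two lines. -/
theorem polar_inter {a : V} (hs : G.T a a ≠ 0) (hF : G.F a = 0) (hn : ¬ IsT G a) :
    (∃ U₁ U₂ : Submodule K V, finrank K U₁ = 2 ∧ finrank K U₂ = 2 ∧ a ∈ U₁ ∧ a ∈ U₂ ∧
      U₁ ≤ LinearMap.ker (G.T a a) ∧ U₂ ≤ LinearMap.ker (G.T a a) ∧
      {x : V | x ∈ LinearMap.ker (G.T a a) ∧ G.T a x x = 0} = (U₁ : Set V) ∪ (U₂ : Set V)) ∧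
    ∀ U : Submodule K V, a ∈ U → finrank K U = 2 → (∀ u ∈ U, G.F u = 0) →
      U ≤ LinearMap.ker (G.T a a) ∧ ∀ u ∈ U, G.T a u u = 0 := by
  refine ⟨?_, fun U ha _ hU => ⟨mem_ker_of_mem hU ha, fun u hu => G.T_eq_zero_of_F hU ha hu hu⟩⟩
  obtain ⟨l₁, l₂, h₁, h₂, hl⟩ := quad_prod hs hF
  have hne : ∀ m m' : (Fin 4 → K) →ₗ[K] K, (∀ u, G.T a a u = 0 → G.T a u u = m u * m' u) →
      ∃ u, G.T a a u = 0 ∧ m u ≠ 0 := fun m m' h => by
    by_contra! hall
    exact hn (isT_of_polar_zero hs hF fun u hu => by rw [h u hu, hall u hu, zero_mul])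
  have hdim : ∀ m m' : (Fin 4 → K) →ₗ[K] K, (∀ u, G.T a a u = 0 → G.T a u u = m u * m' u) →
      finrank K ↥(LinearMap.ker (G.T a a) ⊓ LinearMap.ker m) = 2 := by
    intro m m' h
    obtain ⟨w, hw, hw'⟩ := hne m m' h
    have hm0 : m ≠ 0 := fun h => hw' (by rw [h]; rfl)
    have e := Submodule.finrank_sup_add_finrank_inf_eq (LinearMap.ker (G.T a a)) (LinearMap.ker m)
    rw [finrank_ker hs, finrank_ker hm0] at e
    have hlt : LinearMap.ker m < LinearMap.ker (G.T a a) ⊔ LinearMap.ker m :=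
      lt_of_le_of_ne le_sup_right fun e => hw' (LinearMap.mem_ker.1
        (e ▸ le_sup_left (b := LinearMap.ker m) (LinearMap.mem_ker.2 hw)))
    have h' := Submodule.finrank_lt_finrank_of_lt hlt
    rw [finrank_ker hm0] at h'
    have h4 := Submodule.finrank_le (LinearMap.ker (G.T a a) ⊔ LinearMap.ker m)
    rw [Module.finrank_fin_fun] at h4
    omega
  refine ⟨_, _, hdim l₁ l₂ hl, hdim l₂ l₁ (fun u hu => by rw [hl u hu, mul_comm]),
    Submodule.mem_inf.2 ⟨hF, h₁⟩, Submodule.mem_inf.2 ⟨hF, h₂⟩, inf_le_left, inf_le_left, ?_⟩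
  ext x
  simp only [Set.mem_setOf_eq, Set.mem_union, SetLike.mem_coe, Submodule.mem_inf, LinearMap.mem_ker,
    ← and_or_left]
  exact and_congr_right fun hx => by rw [hl x hx, mul_eq_zero]

end Groth.Agent.CubicT
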