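import Mathlib
import Groth.Agent.CubicT.Tangent
import Groth.Agent.CubicT.Pfaffian

/-!
# Rational points in general position on a cubic surface
-/

noncomputable section

namespace Groth.Agent.CubicT.Points

open CubicLib Module MvPolynomial

universe u v

variable {k : Type u} [Field k] [CharZero k] {K : Type v} [Field K] [CharZero K] [IsAlgClosed K]
  [Algebra k K]

/-- Coordinatewise inclusion. -/
def ι (k : Type u) [Field k] (K : Type v) [Field K] [Algebra k K] :
    (Fin 4 → k) →ₗ[k] (Fin 4 → K) :=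
  LinearMap.compLeft (Algebra.linearMap k K) (Fin 4)

omit [CharZero k] [CharZero K] [IsAlgClosed K] in
theorem ι_apply (v : Fin 4 → k) (i : Fin 4) : ι k K v i = algebraMap k K (v i) := rfl

omit [CharZero k] [CharZero K] [IsAlgClosed K] in
theorem ι_injective : Function.Injective (ι k K) := fun _ _ h =>
  funext fun i => (algebraMap k K).injective (congrFun h i)

omit [CharZero k] [CharZero K] [IsAlgClosed K] in
theorem ι_smul (c : k) (v : Fin 4 → k) : ι k K (c • v) = algebraMap k K c • ι k K v := by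
  funext i; simp [ι_apply]

omit [CharZero k] [CharZero K] [IsAlgClosed K] in
theorem eval_map_ι (f : MvPolynomial (Fin 4) k) (v : Fin 4 → k) :
    eval (ι k K v) (map (algebraMap k K) f) = algebraMap k K (eval v f) := by
  rw [eval_map, eval₂_comp]
  rfl

omit [CharZero k] [CharZero K] [IsAlgClosed K] [Algebra k K] in
theorem pol {L : Type*} [Field L] (H : Cubic L (Fin 4 → L)) (a b c : Fin 4 → L) :
    6 * H.T a b c =
      H.F (a + b + c) - H.F (a + b) - H.F (a + c) - H.F (b + c) + H.F a + H.F b + H.F c := by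
  have h₁ := H.F_comb₃ a b c 1 1 1
  have h₂ := H.F_comb₂ a b 1 1
  have h₃ := H.F_comb₂ a c 1 1
  have h₄ := H.F_comb₂ b c 1 1
  simp only [one_smul] at h₁ h₂ h₃ h₄
  rw [h₁, h₂, h₃, h₄]
  ring

omit [CharZero k] [IsAlgClosed K] in
/-- The forms over the small and the large field agree. -/
theorem T_ι {f : MvPolynomial (Fin 4) k} {g : Cubic k (Fin 4 → k)} (hg : ∀ v, eval v f = g.F v)
    {G : Cubic K (Fin 4 → K)} (hG : ∀ v, eval v (map (algebraMap k K) f) = G.F v) (x y z : Fin 4 → k) :
    G.T (ι k K x) (ι k K y) (ι k K z) = algebraMap k K (g.T x y z) := by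
  have hF : ∀ v, G.F (ι k K v) = algebraMap k K (g.F v) := fun v => by rw [← hG, eval_map_ι, hg]
  have h := pol G (ι k K x) (ι k K y) (ι k K z)
  simp only [← map_add, hF] at h
  simp only [← map_sub, ← map_add, ← pol g x y z, map_mul, map_ofNat] at h
  exact mul_left_cancel₀ (by norm_num) h

omit [CharZero k] [CharZero K] [IsAlgClosed K] in
/-- A vertex over an extension field gives a vertex over the field. -/
theorem not_cone_map (f : MvPolynomial (Fin 4) k)
    (h : ¬ ∃ v : Fin 4 → k, v ≠ 0 ∧ ∑ i : Fin 4, v i • pderiv i f = 0) :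
    ¬ ∃ v : Fin 4 → K, v ≠ 0 ∧ ∑ i : Fin 4, v i • pderiv i (map (algebraMap k K) f) = 0 := by
  rintro ⟨v, hv, hsum⟩
  obtain ⟨i, hi⟩ := Function.ne_iff.mp hv
  obtain ⟨φ, hφ⟩ := Submodule.exists_le_ker_of_notMem (p := (⊥ : Submodule k K)) (v := v i)
    (by simpa using hi)
  refine h ⟨fun j => φ (v j), Function.ne_iff.mpr ⟨i, hφ.1⟩, MvPolynomial.ext _ _ fun m => ?_⟩
  have e := congrArg φ (congrArg (coeff m) hsum)
  simp only [coeff_sum, coeff_smul, pderiv_map, coeff_map, smul_eq_mul, map_sum, coeff_zero,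
    map_zero] at e
  rw [coeff_sum, coeff_zero, ← e]
  refine Finset.sum_congr rfl fun j _ => ?_
  rw [coeff_smul, smul_eq_mul, mul_comm (v j), ← Algebra.smul_def, map_smul, smul_eq_mul, mul_comm]

/-- Being not a T-point, in the form used here. -/
def NonT (G : Cubic K (Fin 4 → K)) (a : Fin 4 → K) : Prop :=
  G.T a a ≠ 0 → ¬ IsT G a

variable {f : MvPolynomial (Fin 4) k} {g : Cubic k (Fin 4 → k)} {G : Cubic K (Fin 4 → K)}

/-- Rational points on the tangent section at a rational point, avoiding given subspaces. -/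
theorem exists_avoid (hgood : Good G) (hg : ∀ v, eval v f = g.F v)
    (hG : ∀ v, eval v (map (algebraMap k K) f) = G.F v) {a : Fin 4 → k} (hFa : g.F a = 0)
    (hn : NonT G (ι k K a)) (Ns : Finset (Submodule K (Fin 4 → K)))
    (hA : ι k K a ≠ 0) (hNs : ∀ N ∈ Ns, ∃ w, G.T (ι k K a) (ι k K a) w = 0 ∧ w ∉ N) :
    ∃ p : Fin 4 → k, g.F p = 0 ∧ g.T a a p = 0 ∧ g.T a p p ≠ 0 ∧ ∀ N ∈ Ns, ι k K p ∉ N := by
  classical
  haveI : Infinite k := Infinite.of_injective ((↑) : ℕ → k) Nat.cast_injective
  have hT := T_ι (K := K) hg hG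
  set A : Fin 4 → K := ι k K a
  -- a projection to the tangent plane, defined over the small field
  obtain ⟨π, πK, hπ, hπK, hπ1⟩ : ∃ (π : (Fin 4 → k) →ₗ[k] (Fin 4 → k))
      (πK : (Fin 4 → K) →ₗ[K] (Fin 4 → K)), (∀ v, ι k K (π v) = πK (ι k K v)) ∧
        (∀ v, G.T A A (πK v) = 0) ∧ ∀ v, G.T A A v = 0 → πK v = v := by
    by_cases h0 : G.T A A = 0
    · exact ⟨LinearMap.id, LinearMap.id, fun _ => rfl, fun v => by rw [h0]; rfl, fun _ _ => rfl⟩
    have hg0 : g.T a a ≠ 0 := fun e => h0 (LinearMap.ext fun v => by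
      rw [pi_eq_sum_univ' v, map_sum, LinearMap.zero_apply]
      refine Finset.sum_eq_zero fun i _ => ?_
      have hs : (Pi.single i (1 : K) : Fin 4 → K) = ι k K (Pi.single i 1) := by
        funext j; rw [ι_apply]; by_cases h : j = i <;> simp [h]
      rw [map_smul, hs, hT, e]
      simp)
    obtain ⟨w, hw⟩ := LinearMap.surjective hg0 1
    refine ⟨LinearMap.id - (g.T a a).smulRight w, LinearMap.id - (G.T A A).smulRight (ι k K w),
      fun v => ?_, fun v => ?_, fun v hv => by simp [hv]⟩
    · simp only [LinearMap.sub_apply, LinearMap.id_apply, LinearMap.smulRight_apply, map_sub,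
        ι_smul, A, hT]
    · simp [A, hT, hw]
  -- the parametrisation
  let φ : (Fin 4 → k) → (Fin 4 → k) := fun s =>
    g.F (π s) • a + (-3 * g.T a (π s) (π s)) • π s
  let φK : (Fin 4 → K) → (Fin 4 → K) := fun s =>
    G.F (πK s) • A + (-3 * G.T A (πK s) (πK s)) • πK s
  have hφ : ∀ s, ι k K (φ s) = φK (ι k K s) := fun s => by
    simp only [φ, φK, map_add, ι_smul, A, ← hπ]
    have e₁ : G.F (ι k K (π s)) = algebraMap k K (g.F (π s)) := hT _ _ _
    rw [e₁, hT]
    simp [map_ofNat]
  let P : MvPolynomial (Fin 4) K := map (algebraMap k K) f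
  let u : Fin 4 → MvPolynomial (Fin 4) K := fun i => lin ((LinearMap.proj i).comp πK)
  let Fu : MvPolynomial (Fin 4) K := aeval u P
  let qu : MvPolynomial (Fin 4) K := ∑ i, ∑ j, C (G.T A (Pi.single i 1) (Pi.single j 1)) * u i * u j
  have hFu : ∀ s, eval s Fu = G.F (πK s) := fun s => by
    rw [← hG, show Fu = aeval u P from rfl, aeval_def, eval₂_comp_left (eval s)]
    change eval₂ _ _ P = eval₂ _ _ P
    congr 1
    · ext r; simp
    · funext i; simp [u, eval_lin]
  have hqu : ∀ s, eval s qu = G.T A (πK s) (πK s) := fun s => by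
    conv_rhs => rw [pi_eq_sum_univ' (πK s)]
    simp only [qu, map_sum, map_mul, eval_C, u, eval_lin, LinearMap.comp_apply, LinearMap.proj_apply,
      map_smul, LinearMap.sum_apply, LinearMap.smul_apply, smul_eq_mul, Finset.mul_sum]
    rw [Finset.sum_comm]
    exact Finset.sum_congr rfl fun i _ => Finset.sum_congr rfl fun j _ => by ring
  -- the polar does not vanish on the tangent plane
  have hpolar : ∃ w, G.T A A w = 0 ∧ G.T A w w ≠ 0 := by
    by_contra! h
    by_cases h0 : G.T A A = 0
    ·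
      refine hgood.cone A hA (LinearMap.ext fun x => LinearMap.ext fun y => ?_)
      have h1 := h (x + y) (by rw [h0]; rfl)
      simp only [map_add, LinearMap.add_apply, h x (by rw [h0]; rfl), h y (by rw [h0]; rfl),
        G.symm₂₃ A y x] at h1
      simpa using (show 2 * G.T A x y = 0 by linear_combination h1)
    · exact hn h0 (isT_of_polar_zero h0 (by rw [← hG, eval_map_ι, hg, hFa, map_zero]) h)
  obtain ⟨w₀, hw₀, hw₀'⟩ := hpolar
  have hφK : ∀ lam : (Fin 4 → K) →ₗ[K] K, (∃ w, G.T A A w = 0 ∧ lam w ≠ 0) →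
      ∃ s, lam (φK s) ≠ 0 := by
    intro lam ⟨w, hw, hw'⟩
    by_contra! h
    have h' : ∀ v, G.T A A v = 0 → G.F v * lam A = 3 * G.T A v v * lam v := fun v hv => by
      have := h v
      simp only [φK, hπ1 v hv, map_add, map_smul, smul_eq_mul] at this
      linear_combination this
    by_cases hA : lam A = 0
    · have hz : ∀ v, G.T A A v = 0 → lam v ≠ 0 → G.T A v v = 0 := fun v hv hl => by
        have e := h' v hv
        rw [hA, mul_zero] at e
        simpa [hl] using e.symm
      refine hw₀' ?_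
      by_cases hl : lam w₀ = 0
      · have e₁ := hz (w₀ + w) (by rw [map_add, hw₀, hw, add_zero]) (by rw [map_add, hl, zero_add]; exact hw')
        have e₂ := hz (w₀ - w) (by rw [map_sub, hw₀, hw, sub_zero]) (by rw [map_sub, hl, zero_sub]; exact neg_ne_zero.2 hw')
        have e₃ := hz w hw hw'
        simp only [map_add, map_sub, LinearMap.add_apply, LinearMap.sub_apply, e₃] at e₁ e₂
        simpa using (show 2 * G.T A w₀ w₀ = 0 by linear_combination e₁ + e₂)
      · exact hz w₀ hw₀ hl
    · have e : ∀ v, G.T A A v = 0 → G.F v = ((3 / lam A) • lam) v * G.T A v v := fun v hv => by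
        have := h' v hv
        simp only [LinearMap.smul_apply, smul_eq_mul]
        field_simp
        linear_combination this
      by_cases h0 : G.T A A = 0
      · exact hgood.irr _ (G.T A) fun v => e v (by rw [h0]; rfl)
      · exact hn h0 (isT_of_polar_dvd h0 (by rw [← hG, eval_map_ι, hg, hFa, map_zero]) _ e)
  have hlam : ∀ N ∈ Ns, ∃ (Q : MvPolynomial (Fin 4) K), Q ≠ 0 ∧ ∀ s, φK s ∈ N → eval s Q = 0 := by
    intro N hN
    obtain ⟨w, hw, hwN⟩ := hNs N hN
    obtain ⟨lam, hl1, hl2⟩ := Submodule.exists_le_ker_of_notMem hwN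
    obtain ⟨s, hs⟩ := hφK lam ⟨w, hw, hl1⟩
    have e : ∀ t, eval t (Fu * C (lam A) + C (-3 : K) * qu * lin (lam.comp πK)) = lam (φK t) := fun t => by
      simp only [φK, map_add, map_mul, eval_C, hFu, hqu, eval_lin, LinearMap.comp_apply, map_smul,
        smul_eq_mul]
    exact ⟨Fu * C (lam A) + C (-3 : K) * qu * lin (lam.comp πK),
      fun h0 => hs (by rw [← e s, h0, map_zero]), fun t ht => by
      rw [e]; exact LinearMap.mem_ker.1 (hl2 ht)⟩
  choose! Q hQ0 hQ using hlam
  have hqu0 : qu ≠ 0 := fun h0 => hw₀' (by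
    have := hqu w₀
    rw [h0, map_zero, hπ1 w₀ hw₀] at this
    exact this.symm)
  have hprod : qu * ∏ N ∈ Ns, Q N ≠ 0 := mul_ne_zero hqu0 (Finset.prod_ne_zero_iff.2 hQ0)
  obtain ⟨s, hs⟩ : ∃ s : Fin 4 → k, eval (ι k K s) (qu * ∏ N ∈ Ns, Q N) ≠ 0 := by
    by_contra! h
    refine hprod (MvPolynomial.funext_set (fun _ => Set.range (algebraMap k K))
      (fun _ => Set.infinite_range_of_injective (algebraMap k K).injective) fun x hx => ?_)
    choose y hy using fun i => hx i (Set.mem_univ i)
    rw [map_zero, ← show ι k K y = x from funext hy]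
    exact h y
  rw [map_mul, map_prod, mul_ne_zero_iff, Finset.prod_ne_zero_iff, hqu, ← hπ, hT, map_ne_zero] at hs
  have hp1 : g.T a a (π s) = 0 := (algebraMap k K).injective (by rw [map_zero, ← hT a a (π s), hπ]; exact hπK _)
  have hFa' : g.T a a a = 0 := hFa
  refine ⟨φ s, ?_, ?_, ?_, fun N hN hmem => hs.2 N hN (hQ N hN _ (hφ s ▸ hmem))⟩
  · show g.F (g.F (π s) • a + (-3 * g.T a (π s) (π s)) • π s) = 0
    rw [g.F_comb₂, hFa, hp1]
    ring
  · simp only [φ, map_add, map_smul, smul_eq_mul, hFa', hp1]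
    ring
  · simp only [φ, map_add, map_smul, LinearMap.add_apply, LinearMap.smul_apply, smul_eq_mul, hFa',
      hp1, g.symm₂₃ a (π s) a]
    simp only [mul_zero, add_zero, zero_add]
    exact mul_ne_zero (mul_ne_zero (by norm_num) hs.1) (mul_ne_zero (mul_ne_zero (by norm_num) hs.1) hs.1)

omit [CharZero k] [CharZero K] [IsAlgClosed K] in
theorem li₄ {x y z w : Fin 4 → k} (hx : x ≠ 0) (hy : ι k K y ∉ Submodule.span K {ι k K x})
    (hz : ι k K z ∉ Submodule.span K {ι k K x, ι k K y})
    (hw : ι k K w ∉ Submodule.span K {ι k K x, ι k K y, ι k K z}) :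
    LinearIndependent k ![x, y, z, w] := by
  rw [Fintype.linearIndependent_iff]
  intro c hc
  simp only [Fin.sum_univ_four, Matrix.cons_val_zero, Matrix.cons_val_one, Matrix.cons_val] at hc
  have hc' := congrArg (ι k K) hc
  simp only [map_add, ι_smul, map_zero] at hc'
  have key : ∀ {S : Submodule K (Fin 4 → K)} {v : Fin 4 → k} {t : k}, ι k K v ∉ S →
      algebraMap k K t • ι k K v ∈ S → t = 0 := fun {S v t} hv h => by
    by_contra ht
    exact hv ((S.smul_mem_iff (by simpa using ht)).1 h)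
  have h3 : c 3 = 0 := key hw (by
    rw [eq_neg_of_add_eq_zero_right hc']
    refine neg_mem (add_mem (add_mem ?_ ?_) ?_) <;>
      exact Submodule.smul_mem _ _ (Submodule.subset_span (by simp)))
  rw [h3, map_zero, zero_smul, add_zero] at hc'
  have h2 : c 2 = 0 := key hz (by
    rw [eq_neg_of_add_eq_zero_right hc']
    refine neg_mem (add_mem ?_ ?_) <;>
      exact Submodule.smul_mem _ _ (Submodule.subset_span (by simp)))
  rw [h2, map_zero, zero_smul, add_zero] at hc'
  have h1 : c 1 = 0 := key hy (by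
    rw [eq_neg_of_add_eq_zero_right hc']
    exact neg_mem (Submodule.smul_mem _ _ (Submodule.subset_span (by simp))))
  rw [h1, map_zero, zero_smul, add_zero, smul_eq_zero] at hc'
  have h0 : c 0 = 0 := by
    rcases hc' with h | h
    · simpa using h
    · exact absurd (ι_injective (h.trans (map_zero _).symm)) hx
  intro i; fin_cases i <;> assumption

omit [CharZero k] [CharZero K] [IsAlgClosed K] in
theorem finish {f : MvPolynomial (Fin 4) k} {g : Cubic k (Fin 4 → k)} {a b c d e : Fin 4 → k}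
    (ha : a ≠ 0) (hFa : g.F a = 0) (hb : g.F b = 0) (hc : g.F c = 0) (hd : g.F d = 0) (he : g.F e = 0)
    (hg : ∀ v, eval v f = g.F v)
    (h1 : ι k K b ∉ Submodule.span K {ι k K a})
    (h2 : ι k K c ∉ Submodule.span K {ι k K a, ι k K b})
    (h3 : ι k K d ∉ Submodule.span K {ι k K a, ι k K b, ι k K c})
    (k₁ : ι k K e ∉ Submodule.span K {ι k K a, ι k K b, ι k K c})
    (k₂ : ι k K e ∉ Submodule.span K {ι k K a, ι k K b, ι k K d})
    (k₃ : ι k K e ∉ Submodule.span K {ι k K a, ι k K c, ι k K d})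
    (k₄ : ι k K e ∉ Submodule.span K {ι k K b, ι k K c, ι k K d}) :
    ∃ p : Fin 5 → (Fin 4 → k), p 0 = a ∧ (∀ j : Fin 5, eval (p j) f = 0) ∧
      ∀ j : Fin 5, LinearIndependent k (fun i : Fin 4 => p (j.succAbove i)) := by
  have hb0 : b ≠ 0 := fun h => h1 (by rw [h, map_zero]; exact zero_mem _)
  have m : ∀ {x : Fin 4 → K} {s : Set (Fin 4 → K)}, x ∈ s → x ∈ Submodule.span K s := fun h =>
    Submodule.subset_span h
  have ne : ∀ {x : Fin 4 → K} {s t : Set (Fin 4 → K)}, x ∉ Submodule.span K t → s ⊆ t →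
      x ∉ Submodule.span K s := fun h hst h' => h (Submodule.span_mono hst h')
  have hca : ι k K c ∉ Submodule.span K {ι k K a} := ne h2 (by simp)
  have hcb : ι k K c ∉ Submodule.span K {ι k K b} := ne h2 (by simp)
  have hdab : ι k K d ∉ Submodule.span K {ι k K a, ι k K b} := ne h3 (by simp [Set.insert_subset_iff])
  have hdac : ι k K d ∉ Submodule.span K {ι k K a, ι k K c} := ne h3 (by simp [Set.insert_subset_iff])
  have hdbc : ι k K d ∉ Submodule.span K {ι k K b, ι k K c} := ne h3 (by simp [Set.insert_subset_iff])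
  refine ⟨![a, b, c, d, e], rfl, fun j => ?_, fun j => ?_⟩
  · rw [hg]; fin_cases j <;> assumption
  · fin_cases j
    · convert li₄ (K := K) hb0 hcb hdbc k₄ using 1
      funext i; fin_cases i <;> rfl
    · convert li₄ (K := K) ha hca hdac k₃ using 1
      funext i; fin_cases i <;> rfl
    · convert li₄ (K := K) ha h1 hdab k₂ using 1
      funext i; fin_cases i <;> rfl
    · convert li₄ (K := K) ha h1 h2 k₁ using 1
      funext i; fin_cases i <;> rfl
    · convert li₄ (K := K) ha h1 h2 h3 using 1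
      funext i; fin_cases i <;> rfl

/-- Five rational points in general position. -/
theorem exists_five (f : MvPolynomial (Fin 4) k) (hf : f.IsHomogeneous 3)
    (hirr : Irreducible (map (algebraMap k K) f))
    (hcone : ¬ ∃ v : Fin 4 → k, v ≠ 0 ∧ ∑ i : Fin 4, v i • pderiv i f = 0)
    (a : Fin 4 → k) (ha : a ≠ 0) (hFa : eval a f = 0)
    (hn : ∀ G : Cubic K (Fin 4 → K), (∀ v, eval v (map (algebraMap k K) f) = G.F v) →
      (∀ v i, eval v (pderiv i (map (algebraMap k K) f)) = 3 * G.T v v (Pi.single i 1)) →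
      NonT G (ι k K a)) :
    ∃ p : Fin 5 → (Fin 4 → k), p 0 = a ∧ (∀ j : Fin 5, eval (p j) f = 0) ∧
      ∀ j : Fin 5, LinearIndependent k (fun i : Fin 4 => p (j.succAbove i)) := by
  classical
  obtain ⟨G, hgood, hG, hG'⟩ := exists_good _ (hf.map _) hirr (not_cone_map f hcone)
  obtain ⟨g, hg, -, -⟩ := exists_cubic f hf
  replace hn := hn G hG hG'
  rw [hg] at hFa
  have hT := T_ι (K := K) hg hG
  obtain ⟨S, hS, hSl, hcov⟩ := exists_cover hgood _ (hf.map _) hG hG'
  set A := ι k K a with hAdef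
  have hA : A ≠ 0 := fun h => ha (ι_injective (h.trans (map_zero _).symm))
  have exists_avoidA := fun Ns => exists_avoid hgood hg hG hFa hn Ns hA
  have hspan2 : ∀ x y : Fin 4 → K, finrank K (Submodule.span K ({x, y} : Set (Fin 4 → K))) ≤ 2 := fun x y => by
    have h := finrank_range_le_card (R := K) ![x, y]
    rwa [Matrix.range_cons_cons_empty, Fintype.card_fin] at h
  have hspan3 : ∀ x y z : Fin 4 → K, finrank K (Submodule.span K ({x, y, z} : Set (Fin 4 → K))) ≤ 3 := fun x y z => by
    have h := finrank_range_le_card (R := K) ![x, y, z]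
    rw [Matrix.range_cons, Matrix.range_cons_cons_empty, Set.singleton_union, Fintype.card_fin] at h
    exact h
  have hsmall : ∀ (b : Fin 4 → K) (N : Submodule K (Fin 4 → K)), finrank K N ≤ 2 →
      ∃ w, G.T b b w = 0 ∧ w ∉ N := by
    intro b N hN
    by_contra! h
    have h3 : 3 ≤ finrank K (LinearMap.ker (G.T b b)) := by
      by_cases h0 : G.T b b = 0
      · rw [h0, LinearMap.ker_zero, finrank_top, Module.finrank_fin_fun]; norm_num
      · rw [finrank_ker h0]
    have := Submodule.finrank_mono (show LinearMap.ker (G.T b b) ≤ N from fun w hw => h w (LinearMap.mem_ker.1 hw))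
    omega
  by_cases hs : G.T A A = 0
  · have hall : ∀ (N : Submodule K (Fin 4 → K)), finrank K N ≤ 3 → ∃ w, G.T A A w = 0 ∧ w ∉ N := by
      intro N hN
      by_contra! h
      have := Submodule.finrank_mono (show (⊤ : Submodule K (Fin 4 → K)) ≤ N from fun w _ => h w (by rw [hs]; rfl))
      rw [finrank_top, Module.finrank_fin_fun] at this
      omega
    obtain ⟨b, hb, -, -, hb'⟩ := exists_avoidA {Submodule.span K {A}} (by
      simp only [Finset.mem_singleton, forall_eq]
      exact hall _ (by rw [finrank_span_singleton hA]; norm_num))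
    obtain ⟨c, hc, -, -, hc'⟩ := exists_avoidA {Submodule.span K {A, ι k K b}} (by
      simp only [Finset.mem_singleton, forall_eq]
      exact hall _ ((hspan2 _ _).trans (by norm_num)))
    obtain ⟨d, hd, -, -, hd'⟩ := exists_avoidA {Submodule.span K {A, ι k K b, ι k K c}} (by
      simp only [Finset.mem_singleton, forall_eq]
      exact hall _ (hspan3 _ _ _))
    obtain ⟨e, he, -, -, he'⟩ := exists_avoidA
      {Submodule.span K {A, ι k K b, ι k K c}, Submodule.span K {A, ι k K b, ι k K d},
        Submodule.span K {A, ι k K c, ι k K d}, Submodule.span K {ι k K b, ι k K c, ι k K d}} (by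
      intro N hN
      simp only [Finset.mem_insert, Finset.mem_singleton] at hN
      rcases hN with rfl | rfl | rfl | rfl <;> exact hall _ (hspan3 _ _ _))
    simp only [Finset.mem_insert, Finset.mem_singleton, forall_eq_or_imp, forall_eq] at hb' hc' hd' he'
    exact finish ha hFa hb hc hd he hg hb' hc' hd' he'.1 he'.2.1 he'.2.2.1 he'.2.2.2
  have hFA : G.F A = 0 := by rw [← hG, eval_map_ι, hg, hFa, map_zero]
  let SF := hS.toFinset
  obtain ⟨b, hb, hbH, hbq, hb'⟩ := exists_avoidA
    (insert (Submodule.span K {A}) SF) (by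
      intro N hN
      refine hsmall A N ?_
      rcases Finset.mem_insert.1 hN with rfl | hN
      · rw [finrank_span_singleton hA]; norm_num
      · rw [(hSl N (hS.mem_toFinset.1 hN)).1])
  set B := ι k K b with hBdef
  have hnb : NonT G B := fun _ hT' => by
    rcases hcov B hT' with ⟨M, hM, hm, -⟩ | ⟨M, hM, hm, -⟩ <;>
      exact hb' M (Finset.mem_insert_of_mem (hS.mem_toFinset.2 hM)) hm
  have hAB : G.T B B A ≠ 0 := by
    rw [G.symm₁₃, hBdef, hAdef, hT, map_ne_zero]; exact hbq
  have exists_avoidB := fun Ns => exists_avoid hgood hg hG hb hnb Ns (fun h => hAB (by simp [hBdef, h]))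
  obtain ⟨c, hc, hcH, -, hc'⟩ := exists_avoidA
    {Submodule.span K {A, B}, LinearMap.ker (G.T B B)} (by
      simp only [Finset.mem_insert, Finset.mem_singleton, forall_eq_or_imp, forall_eq]
      exact ⟨hsmall _ _ (hspan2 _ _), A, hFA, fun h => hAB (LinearMap.mem_ker.1 h)⟩)
  simp only [Finset.mem_insert, Finset.mem_singleton, forall_eq_or_imp, forall_eq,
    LinearMap.mem_ker] at hc'
  have hin : Submodule.span K {A, B, ι k K c} ≤ LinearMap.ker (G.T A A) := Submodule.span_le.2 (by
    rintro x (rfl | rfl | rfl)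
    · exact hFA
    · exact LinearMap.mem_ker.2 (by rw [hT, hbH, map_zero])
    · exact LinearMap.mem_ker.2 (by rw [hT, hcH, map_zero]))
  have hB0 : G.T B B ≠ 0 := fun h => hAB (by rw [h]; rfl)
  have hnotle : ∀ N : Submodule K (Fin 4 → K), finrank K N ≤ 3 → ∀ x, x ∈ N →
      G.T B B x ≠ 0 → ∃ w, G.T B B w = 0 ∧ w ∉ N := by
    intro N hN x hx hx'
    by_contra! h
    have e : LinearMap.ker (G.T B B) = N := Submodule.eq_of_le_of_finrank_le
      (fun w hw => h w (LinearMap.mem_ker.1 hw)) (by rw [finrank_ker hB0]; exact hN)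
    exact hx' (LinearMap.mem_ker.1 (e ▸ hx))
  have hH : ∃ w, G.T B B w = 0 ∧ w ∉ LinearMap.ker (G.T A A) :=
    hnotle _ (finrank_ker hs).le A hFA hAB
  obtain ⟨d, hd, -, -, hd'⟩ := exists_avoidB {LinearMap.ker (G.T A A)} (by
    simpa only [Finset.mem_singleton, forall_eq] using hH)
  simp only [Finset.mem_singleton, forall_eq] at hd'
  obtain ⟨e, he, -, -, he'⟩ := exists_avoidB
    {LinearMap.ker (G.T A A), Submodule.span K {A, B, ι k K d},
      Submodule.span K {A, ι k K c, ι k K d}, Submodule.span K {B, ι k K c, ι k K d}} (by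
      simp only [Finset.mem_insert, Finset.mem_singleton, forall_eq_or_imp, forall_eq]
      exact ⟨hH, hnotle _ (hspan3 _ _ _) A (Submodule.subset_span (by simp)) hAB,
        hnotle _ (hspan3 _ _ _) A (Submodule.subset_span (by simp)) hAB,
        hnotle _ (hspan3 _ _ _) (ι k K c) (Submodule.subset_span (by simp)) hc'.2⟩)
  simp only [Finset.mem_insert, Finset.mem_singleton, forall_eq_or_imp, forall_eq] at he' hb'
  exact finish ha hFa hb hc hd he hg hb'.1 hc'.1 (fun h => hd' (hin h)) (fun h => he'.1 (hin h))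
    he'.2.1 he'.2.2.1 he'.2.2.2

end Groth.Agent.CubicT.Points
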