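import Mathlib
import Groth.Agent.CubicT.Points

/-!
# Linear Pfaffian representations over extensions of degree at most three
-/

noncomputable section

namespace Groth.Agent.CubicT.Extension

open CubicLib Module MvPolynomial Points

universe u v w

variable {k : Type u} [Field k] [CharZero k] {K : Type v} [Field K] [CharZero K] [IsAlgClosed K]
  [Algebra k K]

omit [CharZero k] in
/-- The hypothesis that a point is not a T-point. -/
theorem nonT (f : MvPolynomial (Fin 4) k) (a : Fin 4 → k) (ha : a ≠ 0) (hFa : eval a f = 0)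
    (hT : ¬ ∃ L₁ L₂ L₃ : MvPolynomial (Fin 4) K, L₁.IsHomogeneous 1 ∧ L₂.IsHomogeneous 1 ∧
      L₃.IsHomogeneous 1 ∧ map (algebraMap k K) f - L₁ * L₂ * L₃ ∈ Ideal.span
        {∑ i : Fin 4, C (algebraMap k K (eval a (pderiv i f))) * X i})
    (G : Cubic K (Fin 4 → K)) (hG : ∀ v, eval v (map (algebraMap k K) f) = G.F v)
    (hG' : ∀ v i, eval v (pderiv i (map (algebraMap k K) f)) = 3 * G.T v v (Pi.single i 1)) :
    NonT G (ι k K a) := by
  intro _ h
  refine hT ?_
  have e := ((tPoint_iff hG hG' (ι k K a)).2 h).2.2.2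
  simp only [pderiv_map, eval_map_ι] at e
  exact e

theorem exists_rep_of_point (f : MvPolynomial (Fin 4) k) (hf : f.IsHomogeneous 3)
    (hirr : Irreducible (map (algebraMap k K) f))
    (hcone : ¬ ∃ v : Fin 4 → k, v ≠ 0 ∧ ∑ i : Fin 4, v i • pderiv i f = 0)
    (a : Fin 4 → k) (ha : a ≠ 0) (hFa : eval a f = 0)
    (hn : ∀ G : Cubic K (Fin 4 → K), (∀ v, eval v (map (algebraMap k K) f) = G.F v) →
      (∀ v i, eval v (pderiv i (map (algebraMap k K) f)) = 3 * G.T v v (Pi.single i 1)) →
      NonT G (ι k K a)) :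
    ∃ M : Matrix (Fin 6) (Fin 6) (MvPolynomial (Fin 4) k), (∀ i j, (M i j).IsHomogeneous 1) ∧
      M.transpose = -M ∧ (∀ i, M i i = 0) ∧ ∃ c : k, c ≠ 0 ∧ M.det = C c * f ^ 2 := by
  obtain ⟨p, -, hp, hgen⟩ := exists_five f hf hirr hcone a ha hFa hn
  exact Pfaffian.exists_rep f hf p hp hgen

/-- A line whose points on the surface give representations. -/
theorem exists_line (f : MvPolynomial (Fin 4) k) (hf : f.IsHomogeneous 3)
    (hirr : Irreducible (map (algebraMap k K) f))
    (hcone : ¬ ∃ v : Fin 4 → k, v ≠ 0 ∧ ∑ i : Fin 4, v i • pderiv i f = 0) :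
    ∃ P : Polynomial k, P.natDegree = 3 ∧ ∀ (E : Type w) [Field E] [CharZero E] [Algebra k E]
      [Algebra E K] [IsScalarTower k E K] (r : E), Polynomial.aeval r P = 0 →
      ∃ M : Matrix (Fin 6) (Fin 6) (MvPolynomial (Fin 4) E), (∀ i j, (M i j).IsHomogeneous 1) ∧
        M.transpose = -M ∧ (∀ i, M i i = 0) ∧
        ∃ c : E, c ≠ 0 ∧ M.det = C c * (map (algebraMap k E) f) ^ 2 := by
  classical
  haveI : Infinite k := Infinite.of_injective ((↑) : ℕ → k) Nat.cast_injective
  obtain ⟨G, hgood, hG, hG'⟩ := exists_good _ (hf.map _) hirr (not_cone_map f hcone)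
  obtain ⟨S, hS, hSl, hcov⟩ := exists_cover hgood _ (hf.map _) hG hG'
  obtain ⟨g, hg, -, -⟩ := exists_cubic f hf
  obtain ⟨q, hq⟩ : ∃ q, eval q f ≠ 0 := by
    by_contra! h
    exact hirr.ne_zero (by rw [show f = 0 from MvPolynomial.funext fun v => by rw [h v, map_zero], map_zero])
  set Q := ι k K q
  let Ns : Finset (Submodule K (Fin 4 → K)) :=
    insert (Submodule.span K {Q}) (hS.toFinset.image fun M => M ⊔ Submodule.span K {Q})
  have hNs : ∀ N ∈ Ns, ∃ lam : (Fin 4 → K) →ₗ[K] K, lam ≠ 0 ∧ N ≤ LinearMap.ker lam := by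
    intro N hN
    have hlt : finrank K N < 4 := by
      have h1 : finrank K (Submodule.span K ({Q} : Set (Fin 4 → K))) ≤ 1 := by
        simpa using finrank_span_le_card (R := K) ({Q} : Set (Fin 4 → K))
      simp only [Ns, Finset.mem_insert, Finset.mem_image, Set.Finite.mem_toFinset] at hN
      rcases hN with rfl | ⟨M, hM, rfl⟩
      · omega
      · have h := Submodule.finrank_sup_add_finrank_inf_eq M (Submodule.span K {Q})
        have := (hSl M hM).1
        omega
    obtain ⟨lam, h1, h2⟩ := N.exists_le_ker_of_lt_top (lt_top_iff_ne_top.2 fun he => by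
      rw [he, finrank_top, Module.finrank_fin_fun] at hlt
      omega)
    exact ⟨lam, h1, h2⟩
  choose! lam hlam0 hlam using hNs
  obtain ⟨p, hp⟩ : ∃ p : Fin 4 → k, eval (ι k K p) (∏ N ∈ Ns, lin (lam N)) ≠ 0 := by
    by_contra! h
    have hne : ∏ N ∈ Ns, lin (lam N) ≠ 0 := Finset.prod_ne_zero_iff.2 fun N hN h0 =>
      hlam0 N hN (LinearMap.ext fun v => by rw [← eval_lin, h0, map_zero, LinearMap.zero_apply])
    refine hne (MvPolynomial.funext_set (fun _ => Set.range (algebraMap k K))
      (fun _ => Set.infinite_range_of_injective (algebraMap k K).injective) fun x hx => ?_)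
    choose y hy using fun i => hx i (Set.mem_univ i)
    rw [map_zero, ← show ι k K y = x from funext hy]
    exact h y
  rw [map_prod, Finset.prod_ne_zero_iff] at hp
  have hav : ∀ N ∈ Ns, ι k K p ∉ N := fun N hN h => hp N hN (by
    rw [eval_lin]; exact LinearMap.mem_ker.1 (hlam N hN h))
  let P : Polynomial k := Polynomial.C (g.F q) * Polynomial.X ^ 3 +
    Polynomial.C (3 * g.T p q q) * Polynomial.X ^ 2 + Polynomial.C (3 * g.T p p q) * Polynomial.X +
    Polynomial.C (g.F p)
  refine ⟨P, Polynomial.natDegree_cubic (by rwa [← hg]), fun E _ _ _ _ _ r hr => ?_⟩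
  have hmap : map (algebraMap E K) (map (algebraMap k E) f) = map (algebraMap k K) f := by
    rw [map_map, ← IsScalarTower.algebraMap_eq]
  set b : Fin 4 → E := (1 : E) • ι k E p + r • ι k E q with hb
  have hcomp : ∀ v, ι E K (ι k E v) = ι k K v := fun v => funext fun i =>
    (IsScalarTower.algebraMap_apply k E K (v i)).symm
  have hbK : ι E K b = ι k K p + algebraMap E K r • Q := by
    rw [hb, map_add, ι_smul, ι_smul, map_one, one_smul, hcomp, hcomp]
  have hb0 : b ≠ 0 := fun h => hav _ (Finset.mem_insert_self _ _) (by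
    rw [h, map_zero] at hbK
    rw [show ι k K p = -(algebraMap E K r • Q) from eq_neg_of_add_eq_zero_left hbK.symm]
    exact neg_mem (Submodule.smul_mem _ _ (Submodule.mem_span_singleton_self _)))
  obtain ⟨gE, hgE, -, -⟩ := exists_cubic (map (algebraMap k E) f) (hf.map _)
  have hbF : eval b (map (algebraMap k E) f) = 0 := by
    have hTE := T_ι (K := E) hg hgE
    rw [hgE, hb, gE.F_comb₂]
    simp only [Cubic.F, hTE]
    rw [← hr]
    simp [P, Cubic.F, map_ofNat]
    ring
  refine exists_rep_of_point (K := K) _ (hf.map _) (by rw [hmap]; exact hirr) (not_cone_map f hcone)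
    b hb0 hbF fun G₀ hG₀ hG₀' _ hT => ?_
  rw [hmap] at hG₀ hG₀'
  have hmem : ∀ M ∈ S, ι E K b ∉ M := fun M hM h => hav _ (Finset.mem_insert_of_mem
      (Finset.mem_image_of_mem _ (hS.mem_toFinset.2 hM))) (by
    rw [hbK] at h
    rw [show ι k K p = (ι k K p + algebraMap E K r • Q) + (-algebraMap E K r) • Q by module]
    exact add_mem (Submodule.mem_sup_left h) (Submodule.mem_sup_right
      (Submodule.smul_mem _ _ (Submodule.mem_span_singleton_self _))))
  rcases hcov _ ((tPoint_iff hG hG' _).1 ((tPoint_iff hG₀ hG₀' _).2 hT)) with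
      ⟨M, hM, hm, -⟩ | ⟨M, hM, hm, -⟩ <;> exact hmem M hM hm

end Groth.Agent.CubicT.Extension
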